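import Mathlib

/-!
# Gabber's criterion and rank one idempotents (helper8)

* `Gabber A I`: `I ⊆ rad A` and every polynomial `T^n (T - 1) + p`, `p` of degree `≤ n` with
  coefficients in `I`, has a root in `1 + I`.
* `aeval_charpoly_eq_zero_of_mul_eq`: the determinant trick.
* `exists_gabber_poly`: if `B` is a finite `A`-algebra and `ε ∈ B` is idempotent modulo `IB` of
  "rank one" (i.e. `ε B ⊆ A ε + IB`), then `ε` is killed by a monic polynomial `≡ T^m (T - 1)`.
* `exists_idempotent_of_gabber`: under Gabber's criterion such an `ε` lifts to an idempotent.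
-/

universe u v
open Polynomial

namespace Groth.Agent.H8.HensPair

/-- Gabber's criterion (existence part). -/
def Gabber (A : Type*) [CommRing A] (I : Ideal A) : Prop :=
  I ≤ Ideal.jacobson ⊥ ∧ ∀ (n : ℕ), 0 < n → ∀ p : A[X], p.natDegree ≤ n → (∀ i, p.coeff i ∈ I) →
    ∃ α : A, α - 1 ∈ I ∧ (X ^ n * (X - 1) + p).IsRoot α

variable {A : Type*} [CommRing A] {I : Ideal A} {B : Type*} [CommRing B] [Algebra A B]

theorem exists_coeffs_of_mem_map {n : ℕ} {s : Fin n → B}
    (hs : Submodule.span A (Set.range s) = ⊤) {x : B} (hx : x ∈ I.map (algebraMap A B)) :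
    ∃ c : Fin n → A, (∀ k, c k ∈ I) ∧ x = ∑ k, c k • s k := by
  have hx' : x ∈ I • (⊤ : Submodule A B) := by
    rw [Ideal.smul_top_eq_map]; exact hx
  rw [← hs, Submodule.mem_ideal_smul_span_iff_exists_sum] at hx'
  obtain ⟨a, ha, rfl⟩ := hx'
  refine ⟨a, ha, ?_⟩
  rw [Finsupp.sum_fintype]
  intro i; simp

/-- The determinant trick. -/
theorem aeval_charpoly_eq_zero_of_mul_eq {n : ℕ} (y : Fin n → B)
    (hy : Submodule.span A (Set.range y) = ⊤) (b : B) (M : Matrix (Fin n) (Fin n) A)
    (h : ∀ j, b * y j = ∑ k, M j k • y k) : aeval b M.charpoly = 0 := by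
  let N : Matrix (Fin n) (Fin n) B := (Matrix.charmatrix M).map (aeval b)
  have hdet : aeval b M.charpoly = N.det := by
    rw [Matrix.charpoly, ← AlgHom.coe_toRingHom, RingHom.map_det]
    rfl
  have hN : N.mulVec y = 0 := by
    ext j
    simp only [Matrix.mulVec, dotProduct, N, Matrix.map_apply, Pi.zero_apply]
    have : ∀ k, aeval b (Matrix.charmatrix M j k) * y k =
        (if j = k then b * y k else 0) - M j k • y k := by
      intro k
      by_cases hjk : j = k
      · subst hjk
        simp [Matrix.charmatrix_apply_eq, sub_mul, Algebra.smul_def]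
      · simp [Matrix.charmatrix_apply_ne _ _ _ hjk, hjk, Algebra.smul_def]
    simp_rw [this]
    rw [Finset.sum_sub_distrib, Finset.sum_ite_eq, if_pos (Finset.mem_univ j), h j, sub_self]
  have h2 : ∀ k, N.det * y k = 0 := by
    intro k
    have : (N.adjugate * N).mulVec y = 0 := by
      rw [← Matrix.mulVec_mulVec, hN, Matrix.mulVec_zero]
    rw [Matrix.adjugate_mul] at this
    have := congr_fun this k
    simpa [Matrix.mulVec, dotProduct, Matrix.smul_apply, Matrix.one_apply] using this
  have h3 : ∀ x ∈ Submodule.span A (Set.range y), N.det * x = 0 := by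
    intro x hx
    induction hx using Submodule.span_induction with
    | mem x hx => obtain ⟨k, rfl⟩ := hx; exact h2 k
    | zero => simp
    | add x z _ _ hx hz => rw [mul_add, hx, hz, add_zero]
    | smul a x _ hx => rw [mul_smul_comm, hx, smul_zero]
  rw [hdet, ← mul_one N.det]
  exact h3 1 (hy ▸ Submodule.mem_top)

/-- Polynomials with coefficients in `I` evaluate into `IB`. -/
theorem aeval_mem_map_of_coeff_mem (b : B) {p : A[X]} (hp : ∀ i, p.coeff i ∈ I) :
    aeval b p ∈ I.map (algebraMap A B) := by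
  rw [aeval_eq_sum_range]
  refine Ideal.sum_mem _ fun i _ => ?_
  rw [Algebra.smul_def]
  exact Ideal.mul_mem_right _ _ (Ideal.mem_map_of_mem _ (hp i))

/-- If `b` acts on `Q` as the scalar `α`, every polynomial in `b` acts as its value at `α`. -/
theorem aeval_mul_eq_of_mul_eq {b Q : B} {α : A} (h : b * Q = α • Q) (r : A[X]) :
    aeval b r * Q = r.eval α • Q := by
  induction r using Polynomial.induction_on' with
  | add p q hp hq => rw [map_add, add_mul, hp, hq, eval_add, add_smul]
  | monomial n a =>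
    have hpow : ∀ n : ℕ, b ^ n * Q = α ^ n • Q := by
      intro n
      induction n with
      | zero => simp
      | succ n ih => rw [pow_succ, mul_assoc, h, mul_smul_comm, ih, smul_smul, pow_succ, mul_comm]
    rw [aeval_monomial, eval_monomial, mul_assoc, hpow, Algebra.smul_def, Algebra.smul_def,
      map_mul, mul_assoc]

/-- The characteristic polynomial of a matrix whose columns other than the first vanish. -/
theorem charpoly_of_first_column {R : Type*} [CommRing R] {m : ℕ}
    (M : Matrix (Fin (m + 1)) (Fin (m + 1)) R) (h0 : M 0 0 = 1)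
    (h : ∀ j k, M j (Fin.succ k) = 0) : M.charpoly = X ^ m * (X - 1) := by
  have htri : (Matrix.charmatrix M).BlockTriangular ⇑OrderDual.toDual := by
    intro i j hij
    have hij' : i < j := hij
    obtain ⟨k, rfl⟩ := Fin.exists_succ_eq.mpr (Fin.pos_iff_ne_zero.mp (lt_of_le_of_lt (Fin.zero_le i) hij'))
    rw [Matrix.charmatrix_apply_ne _ _ _ hij'.ne, h, map_zero, neg_zero]
  rw [Matrix.charpoly, Matrix.det_of_isLowerTriangular _ htri, Fin.prod_univ_succ]
  simp only [Matrix.charmatrix_apply_eq, h0, h, map_one, map_zero, sub_zero, Finset.prod_const,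
    Finset.card_univ, Fintype.card_fin]
  ring

/-- Existence of a monic polynomial of Gabber's form annihilating a lift of a rank one idempotent. -/
theorem exists_gabber_poly [Module.Finite A B] (ε : B)
    (hε : ∀ y : B, ∃ a : A, ε * y - a • ε ∈ I.map (algebraMap A B))
    (hε1 : ε * ε - ε ∈ I.map (algebraMap A B)) :
    ∃ (m : ℕ) (χ : A[X]), 0 < m ∧ χ.Monic ∧ χ.map (Ideal.Quotient.mk I) = X ^ m * (X - 1) ∧
      aeval ε χ = 0 := by
  classical
  obtain ⟨n, s, hs⟩ := Module.Finite.exists_fin (R := A) (M := B)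
  -- generators `ε, 0, s₀, …`
  let y : Fin (n + 2) → B := Fin.cons ε (Fin.cons 0 s)
  have hy : Submodule.span A (Set.range y) = ⊤ := by
    rw [eq_top_iff, ← hs]
    apply Submodule.span_mono
    rintro _ ⟨k, rfl⟩
    exact ⟨k.succ.succ, by simp [y]⟩
  -- the relations `ε * y j = a j • ε + ∑ c j k • y (k+1)`
  have hrel : ∀ j : Fin (n + 2), ∃ (a : A) (c : Fin (n + 1) → A), (∀ k, c k ∈ I) ∧
      (j = 0 → a = 1) ∧ ε * y j = a • ε + ∑ k, c k • y k.succ := by
    intro j
    have hy' : Submodule.span A (Set.range fun k : Fin (n + 1) => y k.succ) = ⊤ := by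
      rw [eq_top_iff, ← hs]
      apply Submodule.span_mono
      rintro _ ⟨k, rfl⟩
      exact ⟨k.succ, by simp [y]⟩
    by_cases hj : j = 0
    · subst hj
      obtain ⟨c, hc, hc'⟩ := exists_coeffs_of_mem_map hy' hε1
      refine ⟨1, c, hc, fun _ => rfl, ?_⟩
      have : y 0 = ε := rfl
      rw [this, one_smul, ← hc']; ring
    · obtain ⟨a, ha⟩ := hε (y j)
      obtain ⟨c, hc, hc'⟩ := exists_coeffs_of_mem_map hy' ha
      refine ⟨a, c, hc, fun h => absurd h hj, ?_⟩
      rw [← hc']; ring
  choose a c hc ha hrel' using hrel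
  let M : Matrix (Fin (n + 2)) (Fin (n + 2)) A := fun j => Fin.cons (a j) (c j)
  have hM : ∀ j, ε * y j = ∑ k, M j k • y k := by
    intro j
    rw [Fin.sum_univ_succ, hrel' j]
    rfl
  refine ⟨n + 1, M.charpoly, Nat.succ_pos n, Matrix.charpoly_monic M, ?_,
    aeval_charpoly_eq_zero_of_mul_eq y hy ε M hM⟩
  rw [← Matrix.charpoly_map]
  apply charpoly_of_first_column
  · simp [M, ha 0 rfl]
  · intro j k
    simp only [Matrix.map_apply, M, Fin.cons_succ]
    exact Ideal.Quotient.eq_zero_iff_mem.mpr (hc j k)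

theorem coeff_mem_of_map_eq_zero {p : A[X]} (h : p.map (Ideal.Quotient.mk I) = 0) (i : ℕ) :
    p.coeff i ∈ I := by
  rw [← Ideal.Quotient.eq_zero_iff_mem, ← coeff_map, h, coeff_zero]

theorem pow_sub_mem_of_sq_sub_mem {J : Ideal B} {ε : B} (h : ε * ε - ε ∈ J) (m : ℕ) (hm : 0 < m) :
    ε ^ m - ε ∈ J := by
  induction m with
  | zero => omega
  | succ m ih =>
    rcases Nat.eq_zero_or_pos m with rfl | hm'
    · simp
    · have : ε ^ (m + 1) - ε = ε * (ε ^ m - ε) + (ε * ε - ε) := by ring
      rw [this]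
      exact J.add_mem (J.mul_mem_left _ (ih hm')) h

theorem natDegree_X_pow_mul_X_sub_one {R : Type*} [CommRing R] [Nontrivial R] (m : ℕ) :
    (X ^ m * (X - 1) : R[X]).natDegree = m + 1 := by
  rw [← C_1, (monic_X_pow m).natDegree_mul (monic_X_sub_C 1), natDegree_X_pow, natDegree_X_sub_C]

/-- Gabber's trick: a root `α ≡ 1` of a polynomial `χ ≡ X^m (X - 1)` killing `ε` produces an
idempotent congruent to `ε`. -/
theorem exists_idempotent_of_gabber_poly (hG : Gabber A I) (ε : B)
    (hε1 : ε * ε - ε ∈ I.map (algebraMap A B)) (m : ℕ) (hm : 0 < m) (χ : A[X]) (hχ : χ.Monic)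
    (hχI : χ.map (Ideal.Quotient.mk I) = X ^ m * (X - 1)) (hχε : aeval ε χ = 0) :
    ∃ e : B, IsIdempotentElem e ∧ e - ε ∈ I.map (algebraMap A B) := by
  rcases subsingleton_or_nontrivial A with hA | hA
  · haveI : Subsingleton B := by
      refine ⟨fun x y => ?_⟩
      rw [← one_smul A x, ← one_smul A y, Subsingleton.elim (1 : A) 0, zero_smul, zero_smul]
    exact ⟨0, IsIdempotentElem.zero, by rw [Subsingleton.elim (0 - ε) 0]; exact Ideal.zero_mem _⟩
  -- write `χ = X^m (X - 1) + p`
  set p : A[X] := χ - X ^ m * (X - 1) with hp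
  have hmon : (X ^ m * (X - 1) : A[X]).Monic := (monic_X_pow m).mul (monic_X_sub_C 1)
  have hdeg : (X ^ m * (X - 1) : A[X]).natDegree = m + 1 := natDegree_X_pow_mul_X_sub_one m
  have hdegχ : χ.natDegree = m + 1 := by
    haveI : Nontrivial (A ⧸ I) := by
      rw [Ideal.Quotient.nontrivial_iff]
      rintro rfl
      have h1 : (1 : A) ∈ Ideal.jacobson (⊥ : Ideal A) := hG.1 Submodule.mem_top
      have h0 := Ideal.mem_jacobson_bot.mp h1 (-1)
      simp at h0
    rw [← hχ.natDegree_map (Ideal.Quotient.mk I), hχI, natDegree_X_pow_mul_X_sub_one]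
  have hpdeg : p.natDegree ≤ m := by
    have hlt : p.degree < χ.degree := by
      apply degree_sub_lt_left
      · rw [degree_eq_natDegree hχ.ne_zero, degree_eq_natDegree hmon.ne_zero, hdegχ, hdeg]
      · exact hχ.ne_zero
      · rw [hχ.leadingCoeff, hmon.leadingCoeff]
    rw [degree_eq_natDegree hχ.ne_zero, hdegχ] at hlt
    by_cases hp0 : p = 0
    · rw [hp0]; simp
    · rw [degree_eq_natDegree hp0] at hlt
      exact Nat.lt_succ_iff.mp (by exact_mod_cast hlt)
  have hpI : ∀ i, p.coeff i ∈ I := by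
    apply coeff_mem_of_map_eq_zero
    rw [hp, Polynomial.map_sub, hχI]
    simp
  obtain ⟨α, hα1, hαroot⟩ := hG.2 m hm p hpdeg hpI
  have hχroot : χ.IsRoot α := by
    have : X ^ m * (X - 1) + p = χ := by rw [hp]; ring
    rwa [this] at hαroot
  -- factor `χ = (X - α) q`
  set q : A[X] := χ /ₘ (X - C α) with hq
  have hfac : (X - C α) * q = χ := mul_divByMonic_eq_iff_isRoot.mpr hχroot
  have hqmon : q.Monic := by
    have := hχ
    rw [← hfac] at this
    exact (monic_X_sub_C α).of_mul_monic_left this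
  -- `q ≡ X^m` modulo `I`
  have hα1' : Ideal.Quotient.mk I α = 1 := by
    rw [← map_one (Ideal.Quotient.mk I), Ideal.Quotient.eq]; exact hα1
  have hqI : q.map (Ideal.Quotient.mk I) = X ^ m := by
    have h1 : (X - C (1 : A ⧸ I)) * q.map (Ideal.Quotient.mk I) = (X - C 1) * X ^ m := by
      have := congr_arg (Polynomial.map (Ideal.Quotient.mk I)) hfac
      rw [Polynomial.map_mul, Polynomial.map_sub, map_X, map_C, hα1', hχI] at this
      rw [this, C_1]; ring
    exact (monic_X_sub_C (1 : A ⧸ I)).isRegular.left h1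
  set u : A := q.eval α with hu
  have hu1 : u - 1 ∈ I := by
    rw [← Ideal.Quotient.eq, map_one, hu, ← Polynomial.eval₂_hom, ← eval_map, hqI, eval_pow,
      eval_X, hα1', one_pow]
  have huunit : IsUnit u := Ideal.isUnit_of_sub_one_mem_jacobson_bot u (hG.1 hu1)
  obtain ⟨v, hv⟩ := huunit
  set Q : B := aeval ε q with hQ
  have hεQ : ε * Q = α • Q := by
    have : (ε - algebraMap A B α) * Q = 0 := by
      rw [hQ, ← hχε, ← hfac, map_mul, map_sub, aeval_X, aeval_C]
    rw [sub_mul, sub_eq_zero] at this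
    rw [this, Algebra.smul_def]
  have hQQ : Q * Q = u • Q := aeval_mul_eq_of_mul_eq hεQ q
  refine ⟨(↑v⁻¹ : A) • Q, ?_, ?_⟩
  · show (↑v⁻¹ : A) • Q * ((↑v⁻¹ : A) • Q) = (↑v⁻¹ : A) • Q
    rw [smul_mul_smul_comm, hQQ, smul_smul, ← hv, mul_assoc, Units.inv_mul, mul_one]
  · -- congruence
    have h1 : Q - ε ^ m ∈ I.map (algebraMap A B) := by
      have : Q - ε ^ m = aeval ε (q - X ^ m) := by rw [map_sub, map_pow, aeval_X]
      rw [this]
      apply aeval_mem_map_of_coeff_mem
      apply coeff_mem_of_map_eq_zero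
      rw [Polynomial.map_sub, hqI, Polynomial.map_pow, map_X, sub_self]
    have h2 : ε ^ m - ε ∈ I.map (algebraMap A B) := pow_sub_mem_of_sq_sub_mem hε1 m hm
    have h3 : (↑v⁻¹ : A) - 1 ∈ I := by
      have : (↑v⁻¹ : A) - 1 = -(↑v⁻¹ : A) * (u - 1) := by
        rw [← hv]; ring_nf; rw [Units.inv_mul]; ring
      rw [this]
      exact I.mul_mem_left _ hu1
    have : (↑v⁻¹ : A) • Q - ε = ((↑v⁻¹ : A) - 1) • Q + (Q - ε ^ m) + (ε ^ m - ε) := by
      rw [sub_smul, one_smul]; ring
    rw [this]
    refine Ideal.add_mem _ (Ideal.add_mem _ ?_ h1) h2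
    rw [Algebra.smul_def]
    exact Ideal.mul_mem_right _ _ (Ideal.mem_map_of_mem _ h3)

/-- **Gabber's trick**: under Gabber's criterion, rank one idempotents of `B/IB` lift to `B`, for
`B` a finite `A`-algebra. -/
theorem exists_idempotent_of_gabber [Module.Finite A B] (hG : Gabber A I) (ε : B)
    (hε : ∀ y : B, ∃ a : A, ε * y - a • ε ∈ I.map (algebraMap A B))
    (hε1 : ε * ε - ε ∈ I.map (algebraMap A B)) :
    ∃ e : B, IsIdempotentElem e ∧ e - ε ∈ I.map (algebraMap A B) := by
  obtain ⟨m, χ, hm, hχ, hχI, hχε⟩ := exists_gabber_poly (I := I) ε hε hε1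
  exact exists_idempotent_of_gabber_poly hG ε hε1 m hm χ hχ hχI hχε

end Groth.Agent.H8.HensPair
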