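import Mathlib
import Groth.Agent.Lib.Helper8.HensPair.Gabber

/-!
# Étale lifting for pairs satisfying Gabber's criterion (helper8)

Main result: `exists_lift_of_gabber`: if `(A, I)` satisfies Gabber's criterion, `A'` is an étale
`A`-algebra and `σ : A' → A/I` an `A`-algebra map, then `σ` lifts to `A' → A`.

Ingredients:
* `exists_mul_mem_of_section`: the kernel of `σ` is generated by an idempotent modulo `IA'`.
* `exists_isIntegral_of_section`: Zariski's main theorem along the section.
* `exists_finite_subalgebra`, `exists_pow_mul_mem_map`, `exists_idempotent_of_subalgebra`: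
  construction of an idempotent `e ∈ A'` with `σ e = 1`, `e A' = A e` by Gabber's trick.
* `bijective_algebraMap_of_flat_of_surjective`, `exists_lift_of_idempotent`.
-/

universe u v
open Polynomial TensorProduct

namespace Groth.Agent.H8.HensPair

variable {A : Type*} [CommRing A] {I : Ideal A}

/-- For an unramified `A`-algebra `A'` with an `A`-algebra map `σ : A' → A/I`, the kernel of `σ` is,
modulo `IA'`, generated by an idempotent: there is `ε` with `σ ε = 1` and `ε · ker σ ⊆ IA'`. -/
theorem exists_mul_mem_of_section {A' : Type*} [CommRing A'] [Algebra A A']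
    [Algebra.EssFiniteType A A'] [Algebra.FormallyUnramified A A'] (σ : A' →ₐ[A] A ⧸ I) :
    ∃ ε : A', σ ε = 1 ∧ ∀ s, σ s = 0 → s * ε ∈ I.map (algebraMap A A') := by
  obtain ⟨t, ht₁, ht₂⟩ := (Algebra.FormallyUnramified.iff_exists_tensorProduct
    (R := A) (S := A')).mp ‹_›
  -- the quotient `A'/IA'` as an `A/I`-algebra
  let T := A' ⧸ I.map (algebraMap A A')
  let f₁ : A' →ₐ[A] T := (IsScalarTower.toAlgHom A (A ⧸ I) T).comp σ
  let f₂ : A' →ₐ[A] T := Ideal.Quotient.mkₐ A _
  let Ψ : A' ⊗[A] A' →ₐ[A] T := Algebra.TensorProduct.productMap f₁ f₂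
  -- the map `A'/IA' → A/I` induced by `σ`
  let σ' : T →ₐ[A] A ⧸ I := Ideal.Quotient.liftₐ _ σ (by
    intro a ha
    have : I.map (algebraMap A A') ≤ RingHom.ker σ.toRingHom := by
      rw [Ideal.map_le_iff_le_comap]
      intro i hi
      show σ (algebraMap A A' i) = 0
      rw [σ.commutes]
      exact Ideal.Quotient.eq_zero_iff_mem.mpr hi
    exact this ha)
  have hσ' : ∀ x : A', σ' (Ideal.Quotient.mk _ x) = σ x := fun x => rfl
  have hσ'alg : ∀ c : A ⧸ I, σ' (algebraMap (A ⧸ I) T c) = c := by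
    intro c
    obtain ⟨a, rfl⟩ := Ideal.Quotient.mk_surjective c
    have : algebraMap (A ⧸ I) T (Ideal.Quotient.mk I a) = algebraMap A T a :=
      (IsScalarTower.algebraMap_apply A (A ⧸ I) T a).symm
    rw [this, σ'.commutes]
    rfl
  have hcomp : σ'.comp Ψ = σ.comp (Algebra.TensorProduct.lmul' A) := by
    apply Algebra.TensorProduct.ext'
    intro x y
    simp only [AlgHom.comp_apply, Ψ, Algebra.TensorProduct.productMap_apply_tmul,
      Algebra.TensorProduct.lmul'_apply_tmul, map_mul]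
    congr 1
    exact hσ'alg (σ x)
  obtain ⟨ε, hε⟩ := Ideal.Quotient.mk_surjective (Ψ t)
  refine ⟨ε, ?_, ?_⟩
  · rw [← hσ', hε]
    have := DFunLike.congr_fun hcomp t
    simp only [AlgHom.comp_apply] at this
    rw [this, ht₂, map_one]
  · intro s hs
    rw [← Ideal.Quotient.eq_zero_iff_mem, map_mul, hε]
    have := congr_arg Ψ (ht₁ s)
    rw [map_mul, map_sub, map_zero] at this
    simp only [Ψ, Algebra.TensorProduct.productMap_apply_tmul, map_one, one_mul, mul_one] at this
    have h1 : f₁ s = 0 := by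
      show algebraMap (A ⧸ I) T (σ s) = 0
      rw [hs, map_zero]
    rw [h1, sub_zero] at this
    exact this

/-- The `A`-submodule of elements `r` of `A'`, integral over `A`, such that every element of `A'`
becomes integral over `A` after multiplication by a power of `r`. -/
def zmtSubmodule (A A' : Type*) [CommRing A] [CommRing A'] [Algebra A A'] : Submodule A A' where
  carrier := {r | IsIntegral A r ∧ ∀ x : A', ∃ m : ℕ, IsIntegral A (r ^ m * x)}
  zero_mem' := ⟨isIntegral_zero, fun x => ⟨1, by simpa using isIntegral_zero⟩⟩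
  add_mem' := by
    rintro r r' ⟨hr, hrx⟩ ⟨hr', hrx'⟩
    refine ⟨hr.add hr', fun x => ?_⟩
    obtain ⟨m, hm⟩ := hrx x
    obtain ⟨m', hm'⟩ := hrx' x
    refine ⟨m + m', ?_⟩
    rw [add_pow, Finset.sum_mul]
    refine IsIntegral.sum _ fun k hk => ?_
    have hk' : k ≤ m + m' := Nat.lt_succ_iff.mp (Finset.mem_range.mp hk)
    have hc : IsIntegral A (((m + m').choose k : ℕ) : A') := isIntegral_natCast _
    by_cases hkm : m ≤ k
    · have : r ^ k * r' ^ (m + m' - k) * ((m + m').choose k : A') * x =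
          r ^ (k - m) * r' ^ (m + m' - k) * ((m + m').choose k : A') * (r ^ m * x) := by
        have : r ^ k = r ^ (k - m) * r ^ m := by rw [← pow_add, Nat.sub_add_cancel hkm]
        rw [this]; ring
      rw [this]
      exact (((hr.pow _).mul (hr'.pow _)).mul hc).mul hm
    · have hkm' : m' ≤ m + m' - k := by omega
      have : r ^ k * r' ^ (m + m' - k) * ((m + m').choose k : A') * x =
          r ^ k * r' ^ (m + m' - k - m') * ((m + m').choose k : A') * (r' ^ m' * x) := by
        have : r' ^ (m + m' - k) = r' ^ (m + m' - k - m') * r' ^ m' := by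
          rw [← pow_add, Nat.sub_add_cancel hkm']
        rw [this]; ring
      rw [this]
      exact (((hr.pow _).mul (hr'.pow _)).mul hc).mul hm'
  smul_mem' := by
    rintro a r ⟨hr, hrx⟩
    refine ⟨hr.smul a, fun x => ?_⟩
    obtain ⟨m, hm⟩ := hrx x
    refine ⟨m, ?_⟩
    have : (a • r) ^ m * x = a ^ m • (r ^ m * x) := by
      rw [_root_.smul_pow, smul_mul_assoc]
    rw [this]
    exact hm.smul _

/-- Zariski's main theorem along a section: if `A'` is a quasi-finite `A`-algebra of finite type and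
`σ : A' → A/I` an `A`-algebra map, there is `r ∈ A'` integral over `A` with `σ r = 1` such that
every element of `A'` becomes integral after multiplication by a power of `r`. -/
theorem exists_isIntegral_of_section {A' : Type*} [CommRing A'] [Algebra A A']
    [Algebra.FiniteType A A'] [Algebra.QuasiFinite A A'] (σ : A' →ₐ[A] A ⧸ I) :
    ∃ r : A', IsIntegral A r ∧ σ r = 1 ∧ ∀ x : A', ∃ m : ℕ, IsIntegral A (r ^ m * x) := by
  let N : Submodule A (A ⧸ I) := (zmtSubmodule A A').map σ.toLinearMap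
  let J : Ideal (A ⧸ I) :=
    { carrier := N
      zero_mem' := N.zero_mem
      add_mem' := N.add_mem
      smul_mem' := by
        intro c x hx
        obtain ⟨a, rfl⟩ := Ideal.Quotient.mk_surjective c
        have : Ideal.Quotient.mk I a • x = a • x := by
          rw [Algebra.smul_def]; rfl
        rw [this]
        exact N.smul_mem a hx }
  have hJ : J = ⊤ := by
    by_contra hne
    obtain ⟨M, hM, hJM⟩ := Ideal.exists_le_maximal J hne
    let q : Ideal A' := M.comap σ.toRingHom
    haveI : q.IsPrime := Ideal.comap_isPrime _ M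
    obtain ⟨r, hrq, hr, hrx⟩ := Algebra.zariskisMainProperty_iff.mp
      (Algebra.ZariskisMainProperty.of_finiteType (R := A) q)
    apply hrq
    show σ r ∈ M
    apply hJM
    exact ⟨r, ⟨hr, hrx⟩, rfl⟩
  have h1 : (1 : A ⧸ I) ∈ J := hJ ▸ Submodule.mem_top
  obtain ⟨r, ⟨hr, hrx⟩, hr1⟩ := h1
  exact ⟨r, hr, hr1, hrx⟩

/-- A finite subalgebra capturing `A'` up to powers of `r`. -/
theorem exists_finite_subalgebra {A' : Type*} [CommRing A'] [Algebra A A']
    [Algebra.FiniteType A A'] (r : A') (hr : IsIntegral A r)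
    (hrx : ∀ x : A', ∃ m : ℕ, IsIntegral A (r ^ m * x)) (ε : A') :
    ∃ B : Subalgebra A A', Module.Finite A B ∧ r ∈ B ∧ (∃ l : ℕ, r ^ l * ε ∈ B) ∧
      ∀ x : A', ∃ N : ℕ, r ^ N * x ∈ B := by
  classical
  obtain ⟨s, hs⟩ := Algebra.FiniteType.out (R := A) (A := A')
  choose m hm using hrx
  let gens : Set A' := insert r (insert (r ^ m ε * ε) ((fun x => r ^ m x * x) '' (s : Set A')))
  have hfin : gens.Finite := (s.finite_toSet.image _).insert _ |>.insert _
  have hint : ∀ x ∈ gens, IsIntegral A x := by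
    rintro x (rfl | rfl | ⟨x, -, rfl⟩)
    · exact hr
    · exact hm ε
    · exact hm x
  refine ⟨Algebra.adjoin A gens, Algebra.finite_adjoin_of_finite_of_isIntegral hfin hint,
    Algebra.subset_adjoin (Set.mem_insert _ _),
    ⟨m ε, Algebra.subset_adjoin (Set.mem_insert_of_mem _ (Set.mem_insert _ _))⟩, ?_⟩
  have hrB : r ∈ Algebra.adjoin A gens := Algebra.subset_adjoin (Set.mem_insert _ _)
  intro x
  have hx : x ∈ Algebra.adjoin A (s : Set A') := by rw [hs]; trivial
  induction hx using Algebra.adjoin_induction with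
  | mem x hx =>
    exact ⟨m x, Algebra.subset_adjoin
      (Set.mem_insert_of_mem _ (Set.mem_insert_of_mem _ ⟨x, hx, rfl⟩))⟩
  | algebraMap a => exact ⟨0, by simpa using Subalgebra.algebraMap_mem _ a⟩
  | add x y _ _ hx hy =>
    obtain ⟨N₁, h₁⟩ := hx
    obtain ⟨N₂, h₂⟩ := hy
    refine ⟨N₁ + N₂, ?_⟩
    have : r ^ (N₁ + N₂) * (x + y) = r ^ N₂ * (r ^ N₁ * x) + r ^ N₁ * (r ^ N₂ * y) := by
      rw [pow_add]; ring
    rw [this]
    exact Subalgebra.add_mem _ (Subalgebra.mul_mem _ (Subalgebra.pow_mem _ hrB _) h₁)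
      (Subalgebra.mul_mem _ (Subalgebra.pow_mem _ hrB _) h₂)
  | mul x y _ _ hx hy =>
    obtain ⟨N₁, h₁⟩ := hx
    obtain ⟨N₂, h₂⟩ := hy
    refine ⟨N₁ + N₂, ?_⟩
    have : r ^ (N₁ + N₂) * (x * y) = (r ^ N₁ * x) * (r ^ N₂ * y) := by
      rw [pow_add]; ring
    rw [this]
    exact Subalgebra.mul_mem _ h₁ h₂

/-- Elements of `IA'` land in `IB` after multiplication by a large power of `r`. -/
theorem exists_pow_mul_mem_map {A' : Type*} [CommRing A'] [Algebra A A'] (B : Subalgebra A A')
    (r : A') (hrB : r ∈ B) (hpow : ∀ x : A', ∃ N : ℕ, r ^ N * x ∈ B) (z : A')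
    (hz : z ∈ I.map (algebraMap A A')) :
    ∃ N : ℕ, ∀ N' ≥ N, ∃ w ∈ I.map (algebraMap A B), (w : A') = r ^ N' * z := by
  have hmono : ∀ (z : A') (N : ℕ), (∃ w ∈ I.map (algebraMap A B), (w : A') = r ^ N * z) →
      ∀ N' ≥ N, ∃ w ∈ I.map (algebraMap A B), (w : A') = r ^ N' * z := by
    rintro z N ⟨w, hw, hwz⟩ N' hN'
    refine ⟨(⟨r, hrB⟩ : B) ^ (N' - N) * w, Ideal.mul_mem_left _ _ hw, ?_⟩
    push_cast
    rw [hwz, ← mul_assoc, ← pow_add, Nat.sub_add_cancel hN']
  suffices h : ∃ N : ℕ, ∃ w ∈ I.map (algebraMap A B), (w : A') = r ^ N * z by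
    obtain ⟨N, h⟩ := h
    exact ⟨N, hmono z N h⟩
  induction hz using Submodule.span_induction with
  | mem z hz =>
    obtain ⟨i, hi, rfl⟩ := hz
    exact ⟨0, algebraMap A B i, Ideal.mem_map_of_mem _ hi, by simp⟩
  | zero => exact ⟨0, 0, Ideal.zero_mem _, by simp⟩
  | add x y _ _ hx hy =>
    obtain ⟨N₁, h₁⟩ := hx
    obtain ⟨N₂, h₂⟩ := hy
    obtain ⟨w₁, hw₁, e₁⟩ := hmono x N₁ h₁ (N₁ + N₂) (Nat.le_add_right _ _)
    obtain ⟨w₂, hw₂, e₂⟩ := hmono y N₂ h₂ (N₁ + N₂) (Nat.le_add_left _ _)
    exact ⟨N₁ + N₂, w₁ + w₂, Ideal.add_mem _ hw₁ hw₂, by push_cast; rw [e₁, e₂, mul_add]⟩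
  | smul x z _ hz =>
    obtain ⟨N₁, w, hw, e⟩ := hz
    obtain ⟨N₂, hx⟩ := hpow x
    refine ⟨N₁ + N₂, ⟨r ^ N₂ * x, hx⟩ * w, Ideal.mul_mem_left _ _ hw, ?_⟩
    push_cast
    rw [e, smul_eq_mul, pow_add]; ring

/-- The key construction: an idempotent `e` of `A'` with `σ e = 1` and `e A' = A e`. -/
theorem exists_idempotent_of_subalgebra (hG : Gabber A I) {A' : Type*} [CommRing A']
    [Algebra A A'] (σ : A' →ₐ[A] A ⧸ I) (B : Subalgebra A A') [Module.Finite A B]
    (r : A') (hrB : r ∈ B) (hr1 : σ r = 1) (hpow : ∀ x : A', ∃ N : ℕ, r ^ N * x ∈ B)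
    (ε'' : A') (hε1 : σ ε'' = 1) (hεK : ∀ s, σ s = 0 → s * ε'' ∈ I.map (algebraMap A A'))
    (l : ℕ) (hl : r ^ l * ε'' ∈ B) :
    ∃ e : A', IsIdempotentElem e ∧ σ e = 1 ∧ ∀ x : A', ∃ a : A, e * x = a • e := by
  classical
  let σB : B →ₐ[A] A ⧸ I := σ.comp B.val
  let rB : B := ⟨r, hrB⟩
  let ε₀ : B := ⟨r ^ l * ε'', hl⟩
  have hσIB : ∀ w ∈ I.map (algebraMap A B), σB w = 0 := by
    intro w hw
    have : I.map (algebraMap A B) ≤ RingHom.ker σB.toRingHom := by
      rw [Ideal.map_le_iff_le_comap]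
      intro i hi
      show σB (algebraMap A B i) = 0
      rw [σB.commutes]
      exact Ideal.Quotient.eq_zero_iff_mem.mpr hi
    exact this hw
  -- every element of `B` is congruent to an element of `A` modulo `ker σB`
  have hdec : ∀ y : B, ∃ a : A, σB (y - algebraMap A B a) = 0 := by
    intro y
    obtain ⟨a, ha⟩ := Ideal.Quotient.mk_surjective (σB y)
    refine ⟨a, ?_⟩
    rw [map_sub, σB.commutes, sub_eq_zero, ← ha]
    rfl
  -- module generators of `B`
  obtain ⟨n, y, hy⟩ := Module.Finite.exists_fin (R := A) (M := B)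
  choose a ha using fun k => hdec (y k)
  -- uniform exponent
  have hN : ∀ k, ∃ N : ℕ, ∀ N' ≥ N, ∃ w ∈ I.map (algebraMap A B),
      (w : A') = r ^ N' * (((y k - algebraMap A B (a k) : B) : A') * ε'') :=
    fun k => exists_pow_mul_mem_map B r hrB hpow _ (hεK _ (ha k))
  choose Nk hNk using hN
  let N : ℕ := Finset.univ.sup Nk
  let ε : B := rB ^ N * ε₀
  have hσε : σB ε = 1 := by
    show σ ((ε : B) : A') = 1
    simp only [ε, ε₀, rB, MulMemClass.coe_mul, SubmonoidClass.coe_pow, map_mul, map_pow, hr1, hε1,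
      one_pow, mul_one]
  -- `ε` kills the kernel of `σB` modulo `IB`
  have hεker : ∀ κ : B, σB κ = 0 → ε * κ ∈ I.map (algebraMap A B) := by
    intro κ hκ
    have hκspan : κ ∈ Submodule.span A (Set.range y) := hy ▸ Submodule.mem_top
    obtain ⟨c, hc⟩ := (Submodule.mem_span_range_iff_exists_fun A).mp hκspan
    -- κ = ∑ c k • (y k - a k) + (∑ c k * a k) • 1
    have hsplit : κ = ∑ k, c k • (y k - algebraMap A B (a k)) +
        algebraMap A B (∑ k, c k * a k) := by
      rw [← hc, map_sum, ← Finset.sum_add_distrib]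
      refine Finset.sum_congr rfl fun k _ => ?_
      rw [smul_sub, map_mul, Algebra.smul_def (c k) (algebraMap A B (a k))]
      ring
    have hi : ∑ k, c k * a k ∈ I := by
      rw [← Ideal.Quotient.eq_zero_iff_mem]
      have h0 := hκ
      rw [hsplit, map_add, map_sum] at h0
      simp only [map_smul, ha, smul_zero, Finset.sum_const_zero, zero_add] at h0
      rw [σB.commutes] at h0
      exact h0
    rw [hsplit, mul_add, Finset.mul_sum]
    refine Ideal.add_mem _ (Ideal.sum_mem _ fun k _ => ?_) ?_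
    · obtain ⟨w, hw, hwe⟩ := hNk k N (Finset.le_sup (f := Nk) (Finset.mem_univ k))
      have : ε * c k • (y k - algebraMap A B (a k)) = c k • (rB ^ l * w) := by
        apply Subtype.ext
        simp only [ε, ε₀, rB, MulMemClass.coe_mul, SubmonoidClass.coe_pow, Subalgebra.coe_smul, hwe]
        rw [mul_smul_comm]
        congr 1
        ring
      rw [this, Algebra.smul_def]
      exact Ideal.mul_mem_left _ _ (Ideal.mul_mem_left _ _ hw)
    · exact Ideal.mul_mem_left _ _ (Ideal.mem_map_of_mem _ hi)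
  -- apply Gabber's trick
  obtain ⟨e, he, heε⟩ := exists_idempotent_of_gabber hG ε
    (by
      intro y
      obtain ⟨a, ha'⟩ := hdec y
      refine ⟨a, ?_⟩
      have : ε * y - a • ε = ε * (y - algebraMap A B a) := by
        rw [Algebra.smul_def]; ring
      rw [this]
      exact hεker _ ha')
    (by
      have : ε * ε - ε = ε * (ε - 1) := by ring
      rw [this]
      exact hεker _ (by rw [map_sub, hσε, map_one, sub_self]))
  have hσe : σB e = 1 := by
    have : e = ε + (e - ε) := by ring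
    rw [this, map_add, hσε, hσIB _ heε, add_zero]
  have heker : ∀ κ : B, σB κ = 0 → e * κ ∈ I.map (algebraMap A B) := by
    intro κ hκ
    have : e * κ = (e - ε) * κ + ε * κ := by ring
    rw [this]
    exact Ideal.add_mem _ (Ideal.mul_mem_right _ _ heε) (hεker κ hκ)
  -- Nakayama: `e B = A e`
  have heB : ∀ y : B, ∃ a : A, e * y = a • e := by
    let f : B →ₗ[A] B := LinearMap.mulLeft A e
    have hfg : (LinearMap.range f).FG := by
      rw [LinearMap.range_eq_map]
      exact Module.Finite.fg_top.map f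
    have hle : LinearMap.range f ≤ Submodule.span A {e} := by
      apply Submodule.le_of_le_smul_of_le_jacobson_bot hfg hG.1
      rintro _ ⟨y, rfl⟩
      obtain ⟨a, ha'⟩ := hdec y
      have hsplit : f y = a • e + e * (y - algebraMap A B a) := by
        show e * y = _
        rw [Algebra.smul_def]; ring
      rw [hsplit]
      refine Submodule.add_mem_sup (Submodule.smul_mem _ _ (Submodule.mem_span_singleton_self e)) ?_
      have h1 : e * (y - algebraMap A B a) ∈ I • (⊤ : Submodule A B) := by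
        rw [Ideal.smul_top_eq_map]
        exact heker _ ha'
      have h2 : f (e * (y - algebraMap A B a)) = e * (y - algebraMap A B a) := by
        show e * (e * _) = _
        rw [← mul_assoc, he.eq]
      rw [← h2, LinearMap.range_eq_map, ← Submodule.map_smul'']
      exact Submodule.mem_map_of_mem h1
    intro y
    obtain ⟨a, ha'⟩ := Submodule.mem_span_singleton.mp (hle ⟨y, rfl⟩)
    exact ⟨a, ha'.symm⟩
  -- `e r` is a unit multiple of `e`
  obtain ⟨c, hc⟩ := heB rB
  have hc1 : c - 1 ∈ I := by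
    have h1 := congr_arg σB hc
    rw [map_mul, hσe, map_smul, hσe, one_mul] at h1
    have h2 : σB rB = 1 := hr1
    rw [h2, Algebra.smul_def, mul_one] at h1
    rw [← Ideal.Quotient.eq, map_one]
    exact h1.symm
  obtain ⟨v, hv⟩ := Ideal.isUnit_of_sub_one_mem_jacobson_bot c (hG.1 hc1)
  have hpowe : ∀ M : ℕ, e = (↑v⁻¹ : A) ^ M • (e * rB ^ M) := by
    intro M
    induction M with
    | zero => simp
    | succ M ih =>
      have : e * rB ^ (M + 1) = c • (e * rB ^ M) := by
        rw [pow_succ, ← mul_assoc, mul_comm (e * rB ^ M), ← mul_assoc, mul_comm rB, hc,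
          smul_mul_assoc]
      rw [this, smul_smul, pow_succ, mul_assoc, ← hv, Units.inv_mul, mul_one]
      exact ih
  refine ⟨(e : A'), ?_, hσe, ?_⟩
  · show (e : A') * (e : A') = e
    rw [← MulMemClass.coe_mul, he.eq]
  · intro x
    obtain ⟨M, hM⟩ := hpow x
    obtain ⟨a', ha'⟩ := heB ⟨r ^ M * x, hM⟩
    refine ⟨(↑v⁻¹ : A) ^ M * a', ?_⟩
    have h1 : (e : A') * x = ((↑v⁻¹ : A) ^ M • (e * rB ^ M) : B) * x := by rw [← hpowe M]
    rw [h1]
    have h2 : (((↑v⁻¹ : A) ^ M • (e * rB ^ M) : B) : A') * x =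
        (↑v⁻¹ : A) ^ M • ((e * (⟨r ^ M * x, hM⟩ : B) : B) : A') := by
      simp only [Subalgebra.coe_smul, MulMemClass.coe_mul, SubmonoidClass.coe_pow, rB]
      rw [smul_mul_assoc]
      congr 1
      ring
    rw [h2, ha', Subalgebra.coe_smul, smul_smul]

/-- A flat `A`-algebra which is a quotient of `A` by an ideal contained in the Jacobson radical is
`A` itself. -/
theorem bijective_algebraMap_of_flat_of_surjective {L : Type*} [CommRing L] [Algebra A L]
    [Module.Flat A L] (hs : Function.Surjective (algebraMap A L))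
    (hker : RingHom.ker (algebraMap A L) ≤ Ideal.jacobson ⊥) :
    Function.Bijective (algebraMap A L) := by
  refine ⟨?_, hs⟩
  rw [injective_iff_map_eq_zero]
  intro x hx
  set 𝔟 := RingHom.ker (algebraMap A L) with h𝔟
  haveI : 𝔟.Pure := by
    let e : (A ⧸ 𝔟) ≃ₐ[A] L := Ideal.quotientKerAlgEquivOfSurjective (f := Algebra.ofId A L) hs
    exact Module.Flat.of_linearEquiv e.toLinearEquiv
  obtain ⟨y, hy, hxy⟩ := Ideal.exists_eq_mul_of_pure (I := 𝔟) (x := x) hx
  have hu : IsUnit (1 - y) := by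
    have := (Ideal.mem_jacobson_bot.mp (hker hy)) (-1)
    rwa [mul_neg_one, neg_add_eq_sub] at this
  have h0 : x * (1 - y) = 0 := by rw [mul_sub, mul_one, ← hxy, sub_self]
  exact (hu.mul_left_eq_zero).mp h0

/-- From an idempotent `e` of a flat `A`-algebra `A'` with `σ e = 1` and `e A' = A e` one gets a
lift of `σ : A' → A/I`. -/
theorem exists_lift_of_idempotent (hI : I ≤ Ideal.jacobson ⊥) {A' : Type*} [CommRing A']
    [Algebra A A'] [Module.Flat A A'] (σ : A' →ₐ[A] A ⧸ I) (e : A') (he : IsIdempotentElem e)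
    (hσe : σ e = 1) (heA : ∀ x : A', ∃ a : A, e * x = a • e) :
    ∃ τ : A' →ₐ[A] A, (Ideal.Quotient.mkₐ A I).comp τ = σ := by
  let L := Localization.Away e
  haveI : Module.Flat A L := Module.Flat.trans A A' L
  have he1 : algebraMap A' L e = 1 := by
    have hu : IsUnit (algebraMap A' L e) := IsLocalization.Away.algebraMap_isUnit e
    have : algebraMap A' L e * algebraMap A' L e = algebraMap A' L e := by
      rw [← map_mul, he.eq]
    exact hu.mul_left_cancel (by rw [this, mul_one])
  have hsurj : Function.Surjective (algebraMap A L) := by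
    intro z
    obtain ⟨x, rfl⟩ := IsLocalization.Away.algebraMap_surjective_of_isIdempotentElem
      (S := L) e he z
    obtain ⟨a, ha⟩ := heA x
    refine ⟨a, ?_⟩
    have h1 : algebraMap A' L x = algebraMap A' L (e * x) := by rw [map_mul, he1, one_mul]
    rw [h1, ha, Algebra.smul_def, map_mul, he1, mul_one, ← IsScalarTower.algebraMap_apply]
  -- `σ` extends to `L`
  let σL : L →+* A ⧸ I := IsLocalization.Away.lift (S := L) e (g := σ.toRingHom)
    (by show IsUnit (σ e); rw [hσe]; exact isUnit_one)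
  have hσL : ∀ x : A', σL (algebraMap A' L x) = σ x := fun x =>
    IsLocalization.Away.lift_eq (S := L) e _ x
  have hσLA : ∀ a : A, σL (algebraMap A L a) = Ideal.Quotient.mk I a := by
    intro a
    rw [IsScalarTower.algebraMap_apply A A' L, hσL, σ.commutes]
    rfl
  have hker : RingHom.ker (algebraMap A L) ≤ Ideal.jacobson ⊥ := by
    intro a ha
    apply hI
    rw [← Ideal.Quotient.eq_zero_iff_mem, ← hσLA, (RingHom.mem_ker).mp ha, map_zero]
  have hbij := bijective_algebraMap_of_flat_of_surjective hsurj hker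
  let E : A ≃ₐ[A] L := AlgEquiv.ofBijective (Algebra.ofId A L) hbij
  refine ⟨(E.symm : L →ₐ[A] A).comp (IsScalarTower.toAlgHom A A' L), ?_⟩
  ext x
  simp only [AlgHom.comp_apply, Ideal.Quotient.mkₐ_eq_mk, IsScalarTower.coe_toAlgHom']
  rw [← hσL x, ← hσLA]
  congr 1
  exact E.apply_symm_apply _

/-- **Étale lifting** for pairs satisfying Gabber's criterion (Stacks 09XI (5) ⇒ (2)). -/
theorem exists_lift_of_gabber (hG : Gabber A I) (A' : Type*) [CommRing A'] [Algebra A A']
    [Algebra.Etale A A'] (σ : A' →ₐ[A] A ⧸ I) :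
    ∃ τ : A' →ₐ[A] A, (Ideal.Quotient.mkₐ A I).comp τ = σ := by
  obtain ⟨ε, hε1, hεK⟩ := exists_mul_mem_of_section σ
  obtain ⟨r, hr, hr1, hrx⟩ := exists_isIntegral_of_section σ
  obtain ⟨B, hB, hrB, ⟨l, hl⟩, hpow⟩ := exists_finite_subalgebra r hr hrx ε
  obtain ⟨e, he, hσe, heA⟩ :=
    exists_idempotent_of_subalgebra hG σ B r hrB hr1 hpow ε hε1 hεK l hl
  exact exists_lift_of_idempotent hG.1 σ e he hσe heA

end Groth.Agent.H8.HensPair
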