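import Mathlib

/-!
# Sums of henselian ideals (helper8)

* `isUnit_mk_of_isUnit_mk_sup`: if `I ⊆ rad A`, a unit modulo `I ⊔ J` is a unit modulo `J`.
* `henselianRing_sup`: if `A` is henselian at `I` and at `J`, it is henselian at `I ⊔ J`.
* `henselianRing_sSup`: `A` is henselian at the supremum of all ideals at which it is henselian.
-/

universe u
open Polynomial

namespace Groth.Agent.H8.HensPair

variable {A : Type*} [CommRing A]

theorem isUnit_mk_iff_exists {I : Ideal A} {u : A} :
    IsUnit (Ideal.Quotient.mk I u) ↔ ∃ c : A, u * c - 1 ∈ I := by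
  constructor
  · intro h
    obtain ⟨c', hc'⟩ := h.exists_right_inv
    obtain ⟨c, rfl⟩ := Ideal.Quotient.mk_surjective c'
    refine ⟨c, ?_⟩
    rw [← Ideal.Quotient.eq, map_mul, map_one, hc']
  · rintro ⟨c, hc⟩
    rw [← Ideal.Quotient.eq, map_mul, map_one] at hc
    exact IsUnit.of_mul_eq_one _ hc

/-- If `I` lies in the Jacobson radical, a unit modulo `I ⊔ J` is a unit modulo `J`. -/
theorem isUnit_mk_of_isUnit_mk_sup {I J : Ideal A} (hI : I ≤ Ideal.jacobson ⊥) {u : A}
    (h : IsUnit (Ideal.Quotient.mk (I ⊔ J) u)) : IsUnit (Ideal.Quotient.mk J u) := by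
  obtain ⟨c, hc⟩ := isUnit_mk_iff_exists.mp h
  obtain ⟨i, hi, j, hj, hij⟩ := Submodule.mem_sup.mp hc
  have hu : IsUnit (1 + i) := by
    have := (Ideal.mem_jacobson_bot.mp (hI hi)) 1
    rwa [mul_one, add_comm] at this
  obtain ⟨v, hv⟩ := hu
  rw [isUnit_mk_iff_exists]
  refine ⟨c * ↑v⁻¹, ?_⟩
  have : u * (c * ↑v⁻¹) - 1 = j * ↑v⁻¹ := by
    have h1 : u * c = (v : A) + j := by rw [hv]; linear_combination -hij
    rw [← mul_assoc, h1, add_mul, Units.mul_inv]; ring
  rw [this]
  exact Ideal.mul_mem_right _ _ hj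

theorem henselianRing_bot : HenselianRing A ⊥ where
  jac := bot_le
  is_henselian f _ a₀ h₁ _ := ⟨a₀, by simpa using h₁, by simp⟩

theorem ne_top_of_le_jacobson_bot [Nontrivial A] {I : Ideal A} (hI : I ≤ Ideal.jacobson ⊥) :
    I ≠ ⊤ := by
  rintro rfl
  have h1 : (1 : A) ∈ Ideal.jacobson (⊥ : Ideal A) := hI Submodule.mem_top
  have h0 := Ideal.mem_jacobson_bot.mp h1 (-1)
  simp at h0

/-- A monic polynomial taking a value in a proper ideal has positive degree. -/
theorem degree_pos_of_eval_mem {I : Ideal A} (hI : I ≠ ⊤) {f : A[X]} (hf : f.Monic) {a : A}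
    (h : f.eval a ∈ I) : 0 < f.degree := by
  by_contra hcon
  have hdeg : f.natDegree = 0 := by
    rw [← Polynomial.natDegree_pos_iff_degree_pos] at hcon
    omega
  have : f = 1 := by
    rw [Polynomial.eq_C_of_natDegree_eq_zero hdeg] at hf ⊢
    have := hf.leadingCoeff
    simp only [leadingCoeff_C] at this
    rw [this, map_one]
  rw [this, eval_one] at h
  exact hI ((Ideal.eq_top_iff_one _).mpr h)

theorem henselianRing_sup (I J : Ideal A) [hI : HenselianRing A I] [hJ : HenselianRing A J] :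
    HenselianRing A (I ⊔ J) where
  jac := sup_le hI.jac hJ.jac
  is_henselian f hf a₀ h₁ h₂ := by
    rcases subsingleton_or_nontrivial A with hA | hA
    · exact ⟨a₀, Subsingleton.elim _ _, by simp⟩
    have hpos : 0 < f.degree :=
      degree_pos_of_eval_mem (ne_top_of_le_jacobson_bot (sup_le hI.jac hJ.jac)) hf h₁
    obtain ⟨i, hi, j, hj, hij⟩ := Submodule.mem_sup.mp h₁
    -- first solve modulo `I` using henselianity at `J`
    have hf₁ : (f - C i).Monic := hf.sub_of_left (degree_C_le.trans_lt hpos)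
    have hd₁ : derivative (f - C i) = derivative f := by simp
    obtain ⟨a₁, ha₁, ha₁₀⟩ := hJ.is_henselian (f - C i) hf₁ a₀
      (by rw [eval_sub, eval_C, ← hij]; simpa using hj)
      (by rw [hd₁]; exact isUnit_mk_of_isUnit_mk_sup hI.jac h₂)
    have hfa₁ : f.eval a₁ = i := by
      have : (f - C i).eval a₁ = 0 := ha₁
      rw [eval_sub, eval_C, sub_eq_zero] at this
      exact this
    -- the derivative at `a₁` is still a unit modulo `I ⊔ J`
    have h₂' : IsUnit (Ideal.Quotient.mk (I ⊔ J) (f.derivative.eval a₁)) := by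
      have : Ideal.Quotient.mk (I ⊔ J) (f.derivative.eval a₁) =
          Ideal.Quotient.mk (I ⊔ J) (f.derivative.eval a₀) := by
        rw [Ideal.Quotient.eq]
        obtain ⟨c, hc⟩ := Polynomial.sub_dvd_eval_sub a₁ a₀ f.derivative
        rw [hc]
        exact Ideal.mul_mem_right _ _ (Ideal.mem_sup_right ha₁₀)
      rw [this]; exact h₂
    obtain ⟨a₂, ha₂, ha₂₁⟩ := hI.is_henselian f hf a₁ (hfa₁ ▸ hi)
      (isUnit_mk_of_isUnit_mk_sup hJ.jac (by rwa [sup_comm]))
    refine ⟨a₂, ha₂, ?_⟩
    have : a₂ - a₀ = (a₂ - a₁) + (a₁ - a₀) := by ring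
    rw [this]
    exact Submodule.add_mem_sup ha₂₁ ha₁₀

theorem henselianRing_finset_sup (s : Finset (Ideal A)) (hs : ∀ J ∈ s, HenselianRing A J) :
    HenselianRing A (s.sup id) := by
  classical
  induction s using Finset.induction_on with
  | empty => simpa using henselianRing_bot
  | insert J s _ ih =>
    rw [Finset.sup_insert]
    haveI : HenselianRing A (id J) := hs J (Finset.mem_insert_self J s)
    haveI := ih (fun K hK => hs K (Finset.mem_insert_of_mem hK))
    exact henselianRing_sup _ _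

/-- `A` is henselian at the supremum of all ideals at which it is henselian. -/
theorem henselianRing_sSup : HenselianRing A (sSup {J : Ideal A | HenselianRing A J}) where
  jac := sSup_le fun J (hJ : HenselianRing A J) => hJ.jac
  is_henselian f hf a₀ h₁ h₂ := by
    classical
    obtain ⟨c, hc⟩ := isUnit_mk_iff_exists.mp h₂
    obtain ⟨s₁, hs₁, h₁'⟩ := (Submodule.mem_sSup_iff_exists_finset).mp h₁
    obtain ⟨s₂, hs₂, hc'⟩ := (Submodule.mem_sSup_iff_exists_finset).mp hc
    have hsup : ∀ s : Finset (Ideal A), (⨆ i ∈ s, i) = s.sup id := fun s => by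
      rw [Finset.sup_eq_iSup]; rfl
    rw [hsup] at h₁' hc'
    have hle₁ : s₁.sup id ≤ (s₁ ∪ s₂).sup id := Finset.sup_mono Finset.subset_union_left
    have hle₂ : s₂.sup id ≤ (s₁ ∪ s₂).sup id := Finset.sup_mono Finset.subset_union_right
    haveI : HenselianRing A ((s₁ ∪ s₂).sup id) := henselianRing_finset_sup _ (by
      intro J hJ
      rcases Finset.mem_union.mp hJ with h | h
      · exact hs₁ h
      · exact hs₂ h)
    obtain ⟨a, ha, haa⟩ := HenselianRing.is_henselian (I := (s₁ ∪ s₂).sup id) f hf a₀ (hle₁ h₁')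
      (isUnit_mk_iff_exists.mpr ⟨c, hle₂ hc'⟩)
    refine ⟨a, ha, ?_⟩
    have hle : (s₁ ∪ s₂).sup id ≤ sSup {J : Ideal A | HenselianRing A J} := by
      apply Finset.sup_le
      intro J hJ
      apply le_sSup
      rcases Finset.mem_union.mp hJ with h | h
      · exact hs₁ h
      · exact hs₂ h
    exact hle haa

end Groth.Agent.H8.HensPair
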