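import Mathlib
import Groth.Agent.Lib.Helper8.HensPair.EtaleLift
import Groth.Agent.Lib.Helper8.HensPair.Sup

/-!
# Henselian pairs: étale lifting and Gabber's criterion (helper8)

* `gabber_of_henselianRing`: `HenselianRing A I → Gabber A I`.
* `gabber_unique`: uniqueness of the root in Gabber's criterion.
* `henselianRing_of_etale_lift`: étale lifting implies `HenselianRing A I`.
* `henselianRing_iff_etale_lift` (Stacks 09XI (1) ⇔ (2)), `henselianRing_iff_gabber`
  (Stacks 09XI (1) ⇔ (5)).
-/

universe u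
open Polynomial

namespace Groth.Agent.H8.HensPair

variable {A : Type u} [CommRing A] {I : Ideal A}

theorem eval_mem_of_coeff_mem {p : A[X]} (hp : ∀ i, p.coeff i ∈ I) (a : A) : p.eval a ∈ I := by
  rw [eval_eq_sum_range]
  exact Ideal.sum_mem _ fun i _ => Ideal.mul_mem_right _ _ (hp i)

theorem derivative_coeff_mem {p : A[X]} (hp : ∀ i, p.coeff i ∈ I) (i : ℕ) :
    (derivative p).coeff i ∈ I := by
  rw [coeff_derivative]
  exact Ideal.mul_mem_right _ _ (hp _)

theorem gabber_monic [Nontrivial A] (n : ℕ) (p : A[X]) (hp : p.natDegree ≤ n) :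
    (X ^ n * (X - 1) + p).Monic := by
  have hmon : (X ^ n * (X - 1) : A[X]).Monic := by
    rw [← C_1]; exact (monic_X_pow n).mul (monic_X_sub_C 1)
  apply hmon.add_of_left
  rw [degree_eq_natDegree hmon.ne_zero, natDegree_X_pow_mul_X_sub_one]
  exact lt_of_le_of_lt degree_le_natDegree (by exact_mod_cast Nat.lt_succ_of_le hp)

theorem gabber_derivative_eval (n : ℕ) (p : A[X]) (hpI : ∀ i, p.coeff i ∈ I) (α : A)
    (hα : α - 1 ∈ I) : (derivative (X ^ n * (X - 1) + p)).eval α - 1 ∈ I := by
  have hα' : Ideal.Quotient.mk I α = 1 := by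
    rw [← map_one (Ideal.Quotient.mk I), Ideal.Quotient.eq]; exact hα
  rw [← Ideal.Quotient.eq_zero_iff_mem, map_sub, map_one, sub_eq_zero]
  simp only [derivative_mul, derivative_X_pow, derivative_X,
    derivative_one, sub_zero, mul_one, eval_add, eval_mul, eval_pow, eval_X, eval_sub, eval_one,
    map_add, map_mul, map_pow, map_sub, map_one, hα', one_pow, sub_self, mul_zero, zero_add,
    eval_natCast, map_natCast]
  have : Ideal.Quotient.mk I ((derivative p).eval α) = 0 :=
    Ideal.Quotient.eq_zero_iff_mem.mpr (eval_mem_of_coeff_mem (derivative_coeff_mem hpI) α)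
  rw [this, add_zero]

/-- Stacks 09XI (1) ⇒ (5). -/
theorem gabber_of_henselianRing [h : HenselianRing A I] : Gabber A I := by
  refine ⟨h.jac, fun n hn p hp hpI => ?_⟩
  rcases subsingleton_or_nontrivial A with hA | hA
  · exact ⟨1, by simp, Subsingleton.elim _ _⟩
  have h1 : (X ^ n * (X - 1) + p).eval 1 ∈ I := by
    simp only [eval_add, eval_mul, eval_pow, eval_X, eval_sub, eval_one, sub_self, mul_zero,
      zero_add]
    exact eval_mem_of_coeff_mem hpI 1
  have h2 : IsUnit (Ideal.Quotient.mk I ((derivative (X ^ n * (X - 1) + p)).eval 1)) := by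
    have := gabber_derivative_eval n p hpI 1 (by simp)
    rw [← Ideal.Quotient.eq, map_one] at this
    rw [this]; exact isUnit_one
  obtain ⟨a, ha, ha1⟩ := h.is_henselian _ (gabber_monic n p hp) 1 h1 h2
  exact ⟨a, ha1, ha⟩

/-- Uniqueness of the root in Gabber's criterion. -/
theorem gabber_unique (hI : I ≤ Ideal.jacobson ⊥) (n : ℕ) (p : A[X]) (hpI : ∀ i, p.coeff i ∈ I)
    {α β : A} (hα : α - 1 ∈ I) (hβ : β - 1 ∈ I) (hαr : (X ^ n * (X - 1) + p).IsRoot α)
    (hβr : (X ^ n * (X - 1) + p).IsRoot β) : α = β := by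
  set f := X ^ n * (X - 1) + p with hf
  obtain ⟨k, hk⟩ := Polynomial.binomExpansion f β (α - β)
  have h1 : f.eval α = 0 := hαr
  have h2 : f.eval β = 0 := hβr
  rw [add_sub_cancel, h1, h2] at hk
  have hk' : (α - β) * (f.derivative.eval β + k * (α - β)) = 0 := by
    linear_combination -hk
  have hαβ : α - β ∈ I := by
    have : α - β = (α - 1) - (β - 1) := by ring
    rw [this]; exact I.sub_mem hα hβ
  have hu : IsUnit (f.derivative.eval β + k * (α - β)) := by
    apply Ideal.isUnit_of_sub_one_mem_jacobson_bot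
    apply hI
    have : f.derivative.eval β + k * (α - β) - 1 = (f.derivative.eval β - 1) + k * (α - β) := by
      ring
    rw [this]
    exact I.add_mem (gabber_derivative_eval n p hpI β hβ) (I.mul_mem_left _ hαβ)
  exact sub_eq_zero.mp (hu.mul_left_eq_zero.mp hk')

/-- Stacks 09XI (2) ⇒ (1). -/
theorem henselianRing_of_etale_lift
    (H : ∀ (A' : Type u) [CommRing A'] [Algebra A A'] [Algebra.Etale A A']
      (σ : A' →ₐ[A] A ⧸ I), ∃ τ : A' →ₐ[A] A, (Ideal.Quotient.mkₐ A I).comp τ = σ) :
    HenselianRing A I where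
  jac := by
    intro x hx
    rw [Ideal.mem_jacobson_bot]
    intro y
    set f : A := x * y + 1 with hf
    have hf1 : Ideal.Quotient.mk I f = 1 := by
      rw [← map_one (Ideal.Quotient.mk I), Ideal.Quotient.eq, hf, add_sub_cancel_right]
      exact I.mul_mem_right _ hx
    let σ : Localization.Away f →ₐ[A] A ⧸ I :=
      IsLocalization.liftAlgHom (M := Submonoid.powers f) (f := Ideal.Quotient.mkₐ A I) (by
        rintro ⟨_, k, rfl⟩
        simp only [Ideal.Quotient.mkₐ_eq_mk, map_pow, hf1, one_pow, isUnit_one])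
    obtain ⟨τ, -⟩ := H (Localization.Away f) σ
    have hu : IsUnit (algebraMap A (Localization.Away f) f) :=
      IsLocalization.Away.algebraMap_isUnit f
    have := hu.map τ
    rwa [τ.commutes] at this
  is_henselian := by
    intro f hf a₀ h₁ h₂
    let P : StandardEtalePair A :=
      { f := f, monic_f := hf, g := derivative f, cond := ⟨1, 0, 1, by simp⟩ }
    have hmap : P.HasMap (Ideal.Quotient.mk I a₀) := by
      constructor
      · show aeval (Ideal.Quotient.mk I a₀) f = 0
        rw [aeval_def, ← Ideal.Quotient.algebraMap_eq, Polynomial.eval₂_at_apply,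
          Ideal.Quotient.algebraMap_eq]
        exact Ideal.Quotient.eq_zero_iff_mem.mpr h₁
      · show IsUnit (aeval (Ideal.Quotient.mk I a₀) (derivative f))
        rw [aeval_def, ← Ideal.Quotient.algebraMap_eq, Polynomial.eval₂_at_apply,
          Ideal.Quotient.algebraMap_eq]
        exact h₂
    obtain ⟨τ, hτ⟩ := H P.Ring (P.lift _ hmap)
    refine ⟨τ P.X, ?_, ?_⟩
    · have := (StandardEtalePair.hasMap_X.map τ).1
      rwa [aeval_def, eval₂_eq_eval_map, Algebra.algebraMap_self, Polynomial.map_id] at this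
    · rw [← Ideal.Quotient.eq]
      have := DFunLike.congr_fun hτ P.X
      simpa using this

/-- Stacks 09XI (5) ⇒ (1). -/
theorem henselianRing_of_gabber (hG : Gabber A I) : HenselianRing A I :=
  henselianRing_of_etale_lift fun A' _ _ _ σ => exists_lift_of_gabber hG A' σ

/-- Stacks 09XI (1) ⇒ (2): étale lifting for henselian pairs. -/
theorem exists_lift_of_henselianRing [HenselianRing A I] (A' : Type*) [CommRing A']
    [Algebra A A'] [Algebra.Etale A A'] (σ : A' →ₐ[A] A ⧸ I) :
    ∃ τ : A' →ₐ[A] A, (Ideal.Quotient.mkₐ A I).comp τ = σ :=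
  exists_lift_of_gabber gabber_of_henselianRing A' σ

theorem henselianRing_iff_etale_lift :
    HenselianRing A I ↔ ∀ (A' : Type u) [CommRing A'] [Algebra A A'] [Algebra.Etale A A']
      (σ : A' →ₐ[A] A ⧸ I), ∃ τ : A' →ₐ[A] A, (Ideal.Quotient.mkₐ A I).comp τ = σ :=
  ⟨fun _ A' _ _ _ σ => exists_lift_of_henselianRing A' σ, henselianRing_of_etale_lift⟩

theorem henselianRing_iff_gabber : HenselianRing A I ↔ Gabber A I :=
  ⟨fun _ => gabber_of_henselianRing, henselianRing_of_gabber⟩

end Groth.Agent.H8.HensPair
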