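import Mathlib
import Groth.Agent.Lib.Helper8.Hens.Jacobian
import Groth.Agent.Lib.Helper8.HensPair.Basic

/-!
# Multi-dimensional Hensel lemma for henselian pairs (helper8)
-/

universe u
open Polynomial MvPolynomial Algebra

namespace Groth.Agent.H8.HensPair

open Groth.Agent.H8.Hens in
/-- Multi-dimensional Hensel lemma for henselian pairs. -/
theorem exists_solution_of_jacobian (A : Type u) [CommRing A] (I : Ideal A) [HenselianRing A I]
    (n : ℕ) (P : Fin n → MvPolynomial (Fin n) A) (a₀ : Fin n → A)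
    (h₀ : ∀ i, MvPolynomial.eval a₀ (P i) ∈ I)
    (hJ : IsUnit (Ideal.Quotient.mk I
      (Matrix.of (fun i j => MvPolynomial.eval a₀ (MvPolynomial.pderiv j (P i)))).det)) :
    ∃ a : Fin n → A, (∀ i, MvPolynomial.eval a (P i) = 0) ∧ ∀ j, a j - a₀ j ∈ I := by
  classical
  set κ := A ⧸ I
  let b₀ : Fin n → κ := fun i => Ideal.Quotient.mk I (a₀ i)
  let σ₀ : MvPolynomial (Fin n) A →ₐ[A] κ := MvPolynomial.aeval b₀
  have hσ₀ : ∀ q, σ₀ q = Ideal.Quotient.mk I (MvPolynomial.eval a₀ q) := by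
    intro q
    show MvPolynomial.aeval b₀ q = _
    rw [MvPolynomial.aeval_def, MvPolynomial.eval, MvPolynomial.coe_eval₂Hom,
      MvPolynomial.eval₂_comp_left (Ideal.Quotient.mk I)]
    rfl
  let σ₁ : JacQuot P →ₐ[A] κ := Ideal.Quotient.liftₐ _ σ₀ (by
    intro q hq
    have hle : Ideal.span (Set.range P) ≤ RingHom.ker σ₀.toRingHom := by
      rw [Ideal.span_le]
      rintro _ ⟨i, rfl⟩
      show σ₀ (P i) = 0
      rw [hσ₀]; exact Ideal.Quotient.eq_zero_iff_mem.mpr (h₀ i)
    exact hle hq)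
  have hσ₁ : ∀ q, σ₁ (Ideal.Quotient.mk _ q) = σ₀ q := fun q => rfl
  have hjac : IsUnit (σ₁ (jacPre P).jacobian) := by
    rw [jacPre_jacobian, hσ₁, hσ₀]
    have : MvPolynomial.eval a₀ (jacDet P) =
        (Matrix.of (fun i j => MvPolynomial.eval a₀ (MvPolynomial.pderiv j (P i)))).det := by
      rw [jacDet, RingHom.map_det]
      rfl
    rw [this]
    exact hJ
  let σ : JacAlg P →ₐ[A] κ :=
    IsLocalization.liftAlgHom (M := Submonoid.powers (jacPre P).jacobian) (f := σ₁) (by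
      rintro ⟨_, k, rfl⟩
      rw [map_pow]
      exact hjac.pow k)
  have hσ : ∀ y, σ (algebraMap (JacQuot P) (JacAlg P) y) = σ₁ y := fun y => by
    simp [σ]
  obtain ⟨g, hg⟩ := exists_lift_of_henselianRing (JacAlg P) σ
  let φ : MvPolynomial (Fin n) A →ₐ[A] A :=
    g.comp ((IsScalarTower.toAlgHom A (JacQuot P) (JacAlg P)).comp (Ideal.Quotient.mkₐ A _))
  have hφ : ∀ q, φ q = MvPolynomial.eval (fun i => φ (MvPolynomial.X i)) q := by
    intro q
    have h1 := MvPolynomial.aeval_unique φ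
    have h2 : φ q = MvPolynomial.aeval (φ ∘ MvPolynomial.X) q := by rw [← h1]
    rw [h2, MvPolynomial.aeval_def, MvPolynomial.eval, MvPolynomial.coe_eval₂Hom]
    rfl
  refine ⟨fun i => φ (MvPolynomial.X i), ?_, ?_⟩
  · intro i
    rw [← hφ]
    show g (algebraMap (JacQuot P) (JacAlg P) (Ideal.Quotient.mk _ (P i))) = 0
    have : Ideal.Quotient.mk (Ideal.span (Set.range P)) (P i) = 0 :=
      Ideal.Quotient.eq_zero_iff_mem.mpr (Ideal.subset_span ⟨i, rfl⟩)
    rw [this, map_zero, map_zero]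
  · intro j
    rw [← Ideal.Quotient.eq]
    have := DFunLike.congr_fun hg
      (algebraMap (JacQuot P) (JacAlg P) (Ideal.Quotient.mk _ (MvPolynomial.X j)))
    simp only [AlgHom.comp_apply, Ideal.Quotient.mkₐ_eq_mk] at this
    show Ideal.Quotient.mk I
      (g (algebraMap (JacQuot P) (JacAlg P) (Ideal.Quotient.mk _ (MvPolynomial.X j)))) = _
    rw [this, hσ, hσ₁]
    show MvPolynomial.aeval b₀ (MvPolynomial.X j) = _
    rw [MvPolynomial.aeval_X]

end Groth.Agent.H8.HensPair
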