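import Mathlib
import Groth.Agent.Lib.Helper8.HensPair.MultiHensel

/-!
# Lifting idempotents in finite free algebras over a henselian pair (helper8)

* `repr_mem_of_mem_map`, `mem_map_of_repr_mem`: `IB` in coordinates.
* `isUnit_det_leftMulMatrix`.
* `exists_idempotent_of_basis`, `exists_idempotent_of_free`: if `(A, I)` is a henselian pair and
  `B` is a finite free `A`-algebra, idempotents of `B/IB` lift to `B`.
-/

universe u
open Polynomial MvPolynomial Algebra

namespace Groth.Agent.H8.HensPair

section
variable {A : Type*} [CommRing A] {I : Ideal A} {B : Type*} [CommRing B] [Algebra A B]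
  {ι : Type*} (b : Module.Basis ι A B)

/-- Coordinates of elements of `IB` lie in `I`. -/
theorem repr_mem_of_mem_map {x : B} (hx : x ∈ I.map (algebraMap A B)) (k : ι) :
    b.repr x k ∈ I := by
  have hx' : x ∈ I • (⊤ : Submodule A B) := by
    rw [Ideal.smul_top_eq_map]; exact hx
  refine Submodule.smul_induction_on hx' (fun i hi y _ => ?_) (fun x y hx hy => ?_)
  · rw [map_smul, Finsupp.smul_apply, smul_eq_mul]
    exact I.mul_mem_right _ hi
  · rw [map_add, Finsupp.add_apply]; exact I.add_mem hx hy

theorem mem_map_of_repr_mem [Fintype ι] {x : B} (hx : ∀ k, b.repr x k ∈ I) :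
    x ∈ I.map (algebraMap A B) := by
  rw [← b.sum_repr x]
  refine Ideal.sum_mem _ fun k _ => ?_
  rw [Algebra.smul_def]
  exact Ideal.mul_mem_right _ _ (Ideal.mem_map_of_mem _ (hx k))

/-- If `w² ≡ 1` modulo `IB` then the determinant of multiplication by `w` is a unit modulo `I`. -/
theorem isUnit_det_leftMulMatrix [Fintype ι] [DecidableEq ι] {w : B}
    (hw : w * w - 1 ∈ I.map (algebraMap A B)) :
    IsUnit (Ideal.Quotient.mk I (Algebra.leftMulMatrix b w).det) := by
  have h1 : (Algebra.leftMulMatrix b (w * w)).map (Ideal.Quotient.mk I) = 1 := by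
    ext k l
    have : w * w = 1 + (w * w - 1) := by ring
    rw [this, map_add, map_one, Matrix.map_apply, Matrix.add_apply, map_add,
      Algebra.leftMulMatrix_eq_repr_mul]
    have hmem : b.repr ((w * w - 1) * b l) k ∈ I :=
      repr_mem_of_mem_map b (Ideal.mul_mem_right _ _ hw) k
    rw [Ideal.Quotient.eq_zero_iff_mem.mpr hmem, add_zero]
    by_cases hkl : k = l
    · subst hkl; simp
    · simp [hkl]
  have h2 : Ideal.Quotient.mk I (Algebra.leftMulMatrix b w).det *
      Ideal.Quotient.mk I (Algebra.leftMulMatrix b w).det = 1 := by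
    rw [← map_mul, ← Matrix.det_mul, ← map_mul, RingHom.map_det, RingHom.mapMatrix_apply, h1,
      Matrix.det_one]
  exact IsUnit.of_mul_eq_one _ h2

end

/-- Idempotents lift along `B → B/IB` for `B` finite free over a henselian pair `(A, I)`. -/
theorem exists_idempotent_of_basis {A : Type u} [CommRing A] (I : Ideal A) [HenselianRing A I]
    {B : Type*} [CommRing B] [Algebra A B] {n : ℕ} (b : Module.Basis (Fin n) A B) (y₀ : B)
    (hy₀ : y₀ * y₀ - y₀ ∈ I.map (algebraMap A B)) :
    ∃ e : B, IsIdempotentElem e ∧ e - y₀ ∈ I.map (algebraMap A B) := by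
  classical
  let c : Fin n → Fin n → Fin n → A := fun i j k => b.repr (b i * b j) k
  have hc : ∀ i j k, c i j k = c j i k := fun i j k => by simp only [c, mul_comm]
  let P : Fin n → MvPolynomial (Fin n) A := fun k =>
    ∑ i, ∑ j, MvPolynomial.C (c i j k) * MvPolynomial.X i * MvPolynomial.X j - MvPolynomial.X k
  let y : (Fin n → A) → B := fun a => ∑ i, a i • b i
  have hrepr_y : ∀ a k, b.repr (y a) k = a k := by
    intro a k
    exact congr_fun (b.repr_sum_self a) k
  have hmul : ∀ (x : B) (a : Fin n → A) (l k : Fin n),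
      b.repr (y a * b l) k = ∑ i, c i l k * a i := by
    intro x a l k
    simp only [y, Finset.sum_mul, smul_mul_assoc, map_sum, map_smul, Finsupp.coe_finsetSum,
      Finset.sum_apply, Finsupp.smul_apply, smul_eq_mul, c]
    exact Finset.sum_congr rfl fun i _ => mul_comm _ _
  have hyy : ∀ a k, b.repr (y a * y a) k = ∑ i, ∑ j, c i j k * a i * a j := by
    intro a k
    have : y a * y a = ∑ j, a j • (y a * b j) := by
      conv_lhs => rw [show y a * y a = y a * ∑ j, a j • b j from rfl, Finset.mul_sum]
      simp only [mul_smul_comm]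
    rw [this]
    simp only [map_sum, map_smul, Finsupp.coe_finsetSum, Finset.sum_apply, Finsupp.smul_apply,
      smul_eq_mul, hmul 0, Finset.mul_sum]
    rw [Finset.sum_comm]
    refine Finset.sum_congr rfl fun i _ => Finset.sum_congr rfl fun j _ => ?_
    ring
  have hP : ∀ a k, MvPolynomial.eval a (P k) = b.repr (y a * y a - y a) k := by
    intro a k
    simp only [P, map_sub, map_sum, map_mul, MvPolynomial.eval_C, MvPolynomial.eval_X,
      Finsupp.coe_sub, Pi.sub_apply, hyy, hrepr_y]
  have hJ : ∀ a k l, MvPolynomial.eval a (MvPolynomial.pderiv l (P k)) =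
      Algebra.leftMulMatrix b (2 • y a - 1) k l := by
    intro a k l
    have hR : Algebra.leftMulMatrix b (2 • y a - 1) k l =
        2 * ∑ i, c i l k * a i - (if l = k then 1 else 0) := by
      rw [Algebra.leftMulMatrix_eq_repr_mul]
      have : (2 • y a - 1) * b l = y a * b l + y a * b l - b l := by rw [two_nsmul]; ring
      rw [this, map_sub, map_add, Finsupp.coe_sub, Finsupp.coe_add, Pi.sub_apply, Pi.add_apply,
        hmul 0, Module.Basis.repr_self, Finsupp.single_apply, two_mul]
    rw [hR]
    simp only [P, map_sub, map_sum, Derivation.leibniz, MvPolynomial.pderiv_C, MvPolynomial.pderiv_X,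
      smul_eq_mul, map_add, map_mul, MvPolynomial.eval_C, MvPolynomial.eval_X, mul_zero, add_zero]
    have hsingle : ∀ x : Fin n, MvPolynomial.eval a
        ((Pi.single l 1 : Fin n → MvPolynomial (Fin n) A) x) = if x = l then 1 else 0 := by
      intro x
      rw [Pi.single_apply]
      split_ifs <;> simp
    simp only [hsingle, mul_ite, mul_one, mul_zero, Finset.sum_add_distrib, Finset.sum_ite_eq',
      Finset.mem_univ, if_true]
    have h1 : (∑ x, ∑ x_1, if x = l then a x_1 * c x x_1 k else 0) = ∑ x, c x l k * a x := by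
      rw [Finset.sum_eq_single l]
      · exact Finset.sum_congr rfl fun x _ => by rw [if_pos rfl, hc l x k, mul_comm]
      · intro x _ hx
        simp [hx]
      · intro h; exact absurd (Finset.mem_univ l) h
    rw [h1, two_mul]
    congr 1
    by_cases hkl : k = l
    · subst hkl; simp
    · rw [if_neg hkl, if_neg (Ne.symm hkl)]
  let a₀ : Fin n → A := fun i => b.repr y₀ i
  have hya₀ : y a₀ = y₀ := b.sum_repr y₀
  have h₀ : ∀ k, MvPolynomial.eval a₀ (P k) ∈ I := by
    intro k
    rw [hP, hya₀]
    exact repr_mem_of_mem_map b hy₀ k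
  have hJ₀ : IsUnit (Ideal.Quotient.mk I
      (Matrix.of (fun i j => MvPolynomial.eval a₀ (MvPolynomial.pderiv j (P i)))).det) := by
    have : Matrix.of (fun i j => MvPolynomial.eval a₀ (MvPolynomial.pderiv j (P i))) =
        Algebra.leftMulMatrix b (2 • y a₀ - 1) := by
      ext i j; exact hJ a₀ i j
    rw [this, hya₀]
    apply isUnit_det_leftMulMatrix
    have : (2 • y₀ - 1) * (2 • y₀ - 1) - 1 = 4 * (y₀ * y₀ - y₀) := by rw [two_nsmul]; ring
    rw [this]
    exact Ideal.mul_mem_left _ _ hy₀
  obtain ⟨a, ha, haa⟩ := exists_solution_of_jacobian A I n P a₀ h₀ hJ₀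
  refine ⟨y a, ?_, ?_⟩
  · have : y a * y a - y a = 0 := by
      apply b.repr.injective
      ext k
      rw [← hP, ha]
      simp
    exact sub_eq_zero.mp this
  · rw [← hya₀]
    apply mem_map_of_repr_mem b
    intro k
    rw [map_sub, Finsupp.coe_sub, Pi.sub_apply, hrepr_y, hrepr_y]
    exact haa k

/-- Idempotents lift along `B → B/IB` for `B` finite free over a henselian pair `(A, I)`. -/
theorem exists_idempotent_of_free {A : Type u} [CommRing A] (I : Ideal A) [HenselianRing A I]
    {B : Type*} [CommRing B] [Algebra A B] [Module.Free A B] [Module.Finite A B] (y₀ : B)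
    (hy₀ : y₀ * y₀ - y₀ ∈ I.map (algebraMap A B)) :
    ∃ e : B, IsIdempotentElem e ∧ e - y₀ ∈ I.map (algebraMap A B) := by
  rcases subsingleton_or_nontrivial A with hA | hA
  · haveI : Subsingleton B := by
      refine ⟨fun x y => ?_⟩
      rw [← one_smul A x, ← one_smul A y, Subsingleton.elim (1 : A) 0, zero_smul, zero_smul]
    exact ⟨0, IsIdempotentElem.zero, by rw [Subsingleton.elim (0 - y₀) 0]; exact Ideal.zero_mem _⟩
  · let b := Module.Free.chooseBasis A B
    exact exists_idempotent_of_basis I (b.reindex (Fintype.equivFin _)) y₀ hy₀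

end Groth.Agent.H8.HensPair
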