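import Mathlib
import Groth.Agent.Lib.Helper8.HensPair.Idempotent

/-!
# Idempotents of integral algebras over a henselian pair (helper8)

* `map_le_jacobson_of_isIntegral`, `idempotent_eq_of_sub_mem_jacobson`.
* `idemPoly`: the polynomial `(1 - (1 - X)^d)^d`.
* `exists_idempotent_of_isIntegral`: idempotents lift along `B → B/IB` for `B` integral over a
  henselian pair `(A, I)` (Stacks 09XI (1) ⇒ (4)).
* `bijOn_idempotents_of_isIntegral`.
-/

universe u
open Polynomial

namespace Groth.Agent.H8.HensPair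

/-- `I B ⊆ rad B` for `B` integral over `A` and `I ⊆ rad A`. -/
theorem map_le_jacobson_of_isIntegral {A B : Type*} [CommRing A] [CommRing B] [Algebra A B]
    [Algebra.IsIntegral A B] {I : Ideal A} (hI : I ≤ Ideal.jacobson ⊥) :
    I.map (algebraMap A B) ≤ Ideal.jacobson ⊥ := by
  rw [Ideal.jacobson, le_sInf_iff]
  rintro M ⟨-, hM⟩
  rw [Ideal.map_le_iff_le_comap]
  haveI := hM
  haveI : (M.comap (algebraMap A B)).IsMaximal :=
    Ideal.isMaximal_comap_of_isIntegral_of_isMaximal M
  refine hI.trans ?_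
  rw [Ideal.jacobson]
  exact sInf_le ⟨bot_le, inferInstance⟩

/-- Idempotents congruent modulo the Jacobson radical are equal. -/
theorem idempotent_eq_of_sub_mem_jacobson {B : Type*} [CommRing B] {e e' : B}
    (he : IsIdempotentElem e) (he' : IsIdempotentElem e')
    (h : e - e' ∈ Ideal.jacobson (⊥ : Ideal B)) : e = e' := by
  have h3 : (e - e') * (1 - (e - e') * (e - e')) = 0 := by
    have h1 : e * e = e := he
    have h2 : e' * e' = e' := he'
    have : (e - e') * (1 - (e - e') * (e - e')) =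
        e - e' - (e * e) * e + 3 * (e * e) * e' - 3 * e * (e' * e') + (e' * e') * e' := by ring
    rw [this, h1, h2, h1, h2]; ring
  have hu : IsUnit (1 - (e - e') * (e - e')) := by
    have := (Ideal.mem_jacobson_bot.mp h) (-(e - e'))
    have e1 : (e - e') * -(e - e') + 1 = 1 - (e - e') * (e - e') := by ring
    rwa [e1] at this
  exact sub_eq_zero.mp (hu.mul_left_eq_zero.mp h3)

/-- The universal polynomial `Q = (1 - (1 - X)^d)^d`, which is `≡ 0 mod X^d` and
`≡ 1 mod (1 - X)^d`. -/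
noncomputable def idemPoly (A : Type*) [CommRing A] (d : ℕ) : A[X] := (1 - (1 - X) ^ d) ^ d

theorem idemPoly_mul_one_sub (A : Type*) [CommRing A] (d : ℕ) :
    ∃ W : A[X], idemPoly A d * idemPoly A d - idemPoly A d = (X ^ 2 - X) ^ d * W := by
  set S₁ : A[X] := ∑ k ∈ Finset.range d, (1 - X) ^ k with hS₁
  have h1 : 1 - (1 - X : A[X]) ^ d = X * S₁ := by
    have := mul_neg_geom_sum (1 - X : A[X]) d
    rw [← this]; ring
  set a : A[X] := 1 - (1 - X) ^ d with ha
  set S₂ : A[X] := ∑ k ∈ Finset.range d, a ^ k with hS₂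
  have h2 : 1 - a ^ d = (1 - X) ^ d * S₂ := by
    have := mul_neg_geom_sum a d
    rw [← this, ha]; ring
  refine ⟨(-1) ^ d * (-1) * S₁ ^ d * S₂, ?_⟩
  have hQ : idemPoly A d = a ^ d := rfl
  have : idemPoly A d * idemPoly A d - idemPoly A d = -(a ^ d * (1 - a ^ d)) := by
    rw [hQ]; ring
  rw [this, h2, h1, mul_pow]
  have : (X ^ 2 - X : A[X]) ^ d = (-1) ^ d * (X ^ d * (1 - X) ^ d) := by
    rw [← mul_pow, ← mul_pow]; congr 1; ring
  have hneg : ((-1 : A[X]) ^ d) * ((-1) ^ d) = 1 := by rw [← mul_pow]; simp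
  rw [this]
  linear_combination (X ^ d * S₁ ^ d * S₂ * (1 - X) ^ d) * hneg

theorem aeval_idemPoly_of_isIdempotentElem {A : Type*} [CommRing A] {C : Type*} [CommRing C]
    [Algebra A C] {y : C} (hy : IsIdempotentElem y) (d : ℕ) (hd : 0 < d) :
    aeval y (idemPoly A d) = y := by
  obtain ⟨d, rfl⟩ := Nat.exists_eq_succ_of_ne_zero hd.ne'
  simp only [idemPoly, map_pow, map_sub, map_one, aeval_X]
  rw [hy.one_sub.pow_succ_eq, sub_sub_cancel, hy.pow_succ_eq]

theorem map_mem_map_of_algHom {A B B' : Type*} [CommRing A] [CommRing B] [CommRing B']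
    [Algebra A B] [Algebra A B'] (φ : B' →ₐ[A] B) {I : Ideal A} {x : B'}
    (hx : x ∈ I.map (algebraMap A B')) : φ x ∈ I.map (algebraMap A B) := by
  have h1 : φ x ∈ (I.map (algebraMap A B')).map φ.toRingHom := Ideal.mem_map_of_mem _ hx
  rwa [Ideal.map_map, AlgHom.toRingHom_eq_coe, φ.comp_algebraMap] at h1

/-- Stacks 09XI (1) ⇒ (4), existence: idempotents lift along `B → B/IB` for `B` integral over a
henselian pair `(A, I)`. -/
theorem exists_idempotent_of_isIntegral {A : Type u} [CommRing A] (I : Ideal A)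
    [HenselianRing A I] {B : Type*} [CommRing B] [Algebra A B] [Algebra.IsIntegral A B] (y₀ : B)
    (hy₀ : y₀ * y₀ - y₀ ∈ I.map (algebraMap A B)) :
    ∃ e : B, IsIdempotentElem e ∧ e - y₀ ∈ I.map (algebraMap A B) := by
  rcases subsingleton_or_nontrivial A with hA | hA
  · haveI : Subsingleton B := by
      refine ⟨fun x y => ?_⟩
      rw [← one_smul A x, ← one_smul A y, Subsingleton.elim (1 : A) 0, zero_smul, zero_smul]
    exact ⟨0, IsIdempotentElem.zero, by rw [Subsingleton.elim (0 - y₀) 0]; exact Ideal.zero_mem _⟩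
  -- a monic polynomial `g ≡ X^d` killing `z = y₀² - y₀`
  obtain ⟨g₀, hg₀mon, hg₀z, hg₀I⟩ :=
    Polynomial.exists_monic_aeval_eq_zero_forall_mem_of_mem_map hy₀
  set g : A[X] := g₀ * X with hg
  have hgmon : g.Monic := hg₀mon.mul monic_X
  set d := g.natDegree with hd
  have hdpos : 0 < d := by
    rw [hd, hg, hg₀mon.natDegree_mul monic_X, natDegree_X]; omega
  have hgz : aeval (y₀ * y₀ - y₀) g = 0 := by rw [hg, map_mul, hg₀z, zero_mul]
  have hgI : ∀ i, (g - X ^ d).coeff i ∈ I := by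
    intro i
    rw [coeff_sub, coeff_X_pow]
    by_cases hi : i = d
    · rw [if_pos hi, hi, hd, hgmon.coeff_natDegree, sub_self]; exact I.zero_mem
    · rw [if_neg hi, sub_zero, hg]
      rcases Nat.eq_zero_or_pos i with rfl | hipos
      · simp
      · obtain ⟨j, rfl⟩ := Nat.exists_eq_succ_of_ne_zero hipos.ne'
        rw [coeff_mul_X]
        apply hg₀I
        intro hj
        apply hi
        rw [hd, hg, hg₀mon.natDegree_mul monic_X, natDegree_X, hj]
  -- the polynomial `f = g(X² - X) ≡ (X² - X)^d`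
  set f : A[X] := g.comp (X ^ 2 - X) with hf
  have hq2 : (X ^ 2 - X : A[X]).natDegree = 2 := by
    rw [natDegree_sub_eq_left_of_natDegree_lt] <;> simp
  have hqmon : (X ^ 2 - X : A[X]).Monic := by
    apply (monic_X_pow 2).sub_of_left
    rw [degree_X_pow, degree_X]; norm_num
  have hfmon : f.Monic := hgmon.comp hqmon (by rw [hq2]; norm_num)
  have hfy : aeval y₀ f = 0 := by
    rw [hf, aeval_comp]
    have : aeval y₀ (X ^ 2 - X : A[X]) = y₀ * y₀ - y₀ := by simp [sq]
    rw [this, hgz]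
  have hfI : ∀ i, (f - (X ^ 2 - X) ^ d).coeff i ∈ I := by
    have : f - (X ^ 2 - X) ^ d = (g - X ^ d).comp (X ^ 2 - X) := by
      rw [sub_comp, X_pow_comp]
    rw [this]
    intro i
    rw [← Ideal.Quotient.eq_zero_iff_mem, ← coeff_map, Polynomial.map_comp]
    have : (g - X ^ d).map (Ideal.Quotient.mk I) = 0 := by
      ext j
      rw [coeff_map, coeff_zero]
      exact Ideal.Quotient.eq_zero_iff_mem.mpr (hgI j)
    rw [this, zero_comp, coeff_zero]
  -- the finite free algebra `B' = A[X]/(f)`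
  let B' := AdjoinRoot f
  haveI : Module.Free A B' := Module.Free.of_basis (AdjoinRoot.powerBasis' hfmon).basis
  haveI : Module.Finite A B' := (AdjoinRoot.powerBasis' hfmon).finite
  let t : B' := AdjoinRoot.root f
  have hft : aeval t f = 0 := AdjoinRoot.aeval_eq f ▸ AdjoinRoot.mk_self
  obtain ⟨W, hW⟩ := idemPoly_mul_one_sub A d
  have hQ : aeval t (idemPoly A d) * aeval t (idemPoly A d) - aeval t (idemPoly A d) ∈
      I.map (algebraMap A B') := by
    rw [← map_mul, ← map_sub, hW, map_mul]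
    apply Ideal.mul_mem_right
    have : aeval t ((X ^ 2 - X : A[X]) ^ d) = -aeval t (f - (X ^ 2 - X) ^ d) := by
      rw [map_sub, hft]; ring
    rw [this]
    exact neg_mem (aeval_mem_map_of_coeff_mem t hfI)
  obtain ⟨e', he', hee'⟩ := exists_idempotent_of_free I (aeval t (idemPoly A d)) hQ
  let φ : B' →ₐ[A] B := AdjoinRoot.liftAlgHom f (Algebra.ofId A B) y₀ hfy
  have hφt : φ t = y₀ := AdjoinRoot.liftAlgHom_root f (Algebra.ofId A B) y₀ hfy
  refine ⟨φ e', he'.map φ, ?_⟩
  have h1 : φ e' - aeval y₀ (idemPoly A d) ∈ I.map (algebraMap A B) := by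
    have := map_mem_map_of_algHom φ hee'
    rwa [map_sub, ← aeval_algHom_apply, hφt] at this
  have h2 : aeval y₀ (idemPoly A d) - y₀ ∈ I.map (algebraMap A B) := by
    rw [← Ideal.Quotient.eq, ← Ideal.Quotient.mkₐ_eq_mk A, ← aeval_algHom_apply]
    apply aeval_idemPoly_of_isIdempotentElem _ d hdpos
    show Ideal.Quotient.mk _ y₀ * Ideal.Quotient.mk _ y₀ = Ideal.Quotient.mk _ y₀
    rw [← map_mul, Ideal.Quotient.eq]
    exact hy₀
  have : φ e' - y₀ = (φ e' - aeval y₀ (idemPoly A d)) + (aeval y₀ (idemPoly A d) - y₀) := by ring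
  rw [this]
  exact Ideal.add_mem _ h1 h2

/-- Stacks 09XI (1) ⇒ (4). -/
theorem bijOn_idempotents_of_isIntegral {A : Type u} [CommRing A] (I : Ideal A)
    [h : HenselianRing A I] (B : Type*) [CommRing B] [Algebra A B] [Algebra.IsIntegral A B] :
    Set.BijOn (Ideal.Quotient.mk (Ideal.map (algebraMap A B) I))
      {e : B | IsIdempotentElem e} {e | IsIdempotentElem e} := by
  refine ⟨fun e he => he.map _, ?_, ?_⟩
  · intro e he e' he' hee'
    apply idempotent_eq_of_sub_mem_jacobson he he'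
    apply map_le_jacobson_of_isIntegral h.jac
    exact Ideal.Quotient.eq.mp hee'
  · intro ē hē
    obtain ⟨y₀, rfl⟩ := Ideal.Quotient.mk_surjective ē
    have hy₀ : y₀ * y₀ - y₀ ∈ I.map (algebraMap A B) := by
      rw [← Ideal.Quotient.eq, map_mul]
      exact hē
    obtain ⟨e, he, hey⟩ := exists_idempotent_of_isIntegral I y₀ hy₀
    exact ⟨e, he, Ideal.Quotient.eq.mpr hey⟩

end Groth.Agent.H8.HensPair
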