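/-
Helper8 library: henselian pairs — converse direction of Stacks 09XI:
lifting idempotents in finite algebras implies henselian.
-/
import Mathlib
import Groth.Agent.Lib.Helper8.HensPair.Integral
import Groth.Agent.Lib.Helper8.HensPair.EtaleLift

universe u
open Polynomial

namespace Groth.Agent.H8.HensPair

variable {A : Type u} [CommRing A] {I : Ideal A}

/-- Stacks 09XI (3) ⇒ `I ⊆ rad A`. -/
theorem le_jacobson_of_injOn_idempotents
    (H : ∀ (B : Type u) [CommRing B] [Algebra A B], Module.Finite A B →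
      Set.InjOn (Ideal.Quotient.mk (Ideal.map (algebraMap A B) I)) {e : B | IsIdempotentElem e}) :
    I ≤ Ideal.jacobson ⊥ := by
  rw [Ideal.jacobson, le_sInf_iff]
  rintro m ⟨-, hm⟩
  by_contra hIm
  obtain ⟨a, haI, ham⟩ := Set.not_subset.mp hIm
  obtain ⟨c, m', hm', hcm⟩ := hm.exists_inv ham
  let B := A ⧸ (I ⊓ m)
  have hfin : Module.Finite A B := inferInstance
  let t : B := Ideal.Quotient.mk _ m'
  have ht : IsIdempotentElem t := by
    show t * t = t
    rw [← map_mul, Ideal.Quotient.eq]
    have : m' * m' - m' = -(m' * (c * a)) := by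
      have : c * a = 1 - m' := by rw [← hcm]; ring
      rw [this]; ring
    rw [this]
    refine neg_mem ⟨?_, ?_⟩
    · exact I.mul_mem_left _ (I.mul_mem_left _ haI)
    · exact m.mul_mem_right _ hm'
  have h1 : Ideal.Quotient.mk (Ideal.map (algebraMap A B) I) t =
      Ideal.Quotient.mk (Ideal.map (algebraMap A B) I) 1 := by
    rw [Ideal.Quotient.eq]
    have : t - 1 = algebraMap A B (-(c * a)) := by
      show Ideal.Quotient.mk _ m' - 1 = Ideal.Quotient.mk _ (-(c * a))
      rw [← map_one (Ideal.Quotient.mk (I ⊓ m)), ← map_sub]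
      congr 1
      rw [← hcm]; ring
    rw [this]
    exact Ideal.mem_map_of_mem _ (neg_mem (I.mul_mem_left _ haI))
  have h2 : t = 1 := H B hfin ht IsIdempotentElem.one h1
  have h3 : m' - 1 ∈ I ⊓ m := by
    rw [← Ideal.Quotient.eq, map_one]
    exact h2
  have : (1 : A) ∈ m := by
    have := m.sub_mem hm' h3.2
    rwa [sub_sub_cancel] at this
  exact hm.ne_top ((Ideal.eq_top_iff_one _).mpr this)


/-- Stacks 09XI (3) ⇒ (1): lifting idempotents in `A[X]/(f)` gives lifting of simple roots. -/
theorem exists_root_of_exists_idempotent (hI : I ≤ Ideal.jacobson ⊥)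
    (f : A[X]) (hf : f.Monic) (a₀ : A) (h₁ : f.eval a₀ ∈ I)
    (h₂ : IsUnit (Ideal.Quotient.mk I (f.derivative.eval a₀)))
    (H : ∀ y₀ : AdjoinRoot f, y₀ * y₀ - y₀ ∈ I.map (algebraMap A (AdjoinRoot f)) →
      ∃ e : AdjoinRoot f, IsIdempotentElem e ∧ e - y₀ ∈ I.map (algebraMap A (AdjoinRoot f))) :
    ∃ a : A, f.IsRoot a ∧ a - a₀ ∈ I := by
  let B := AdjoinRoot f
  let t : B := AdjoinRoot.root f
  have hft : aeval t f = 0 := AdjoinRoot.aeval_eq f ▸ AdjoinRoot.mk_self
  -- `f = (X - a₀) h + f(a₀)`, `h = (X - a₀) h₁ + h(a₀)` and `h(a₀) = f'(a₀)`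
  have hdiv : ∀ p : A[X], ∃ q : A[X], p = (X - C a₀) * q + C (p.eval a₀) := by
    intro p
    refine ⟨p /ₘ (X - C a₀), ?_⟩
    have := modByMonic_add_div p (X - C a₀)
    rw [modByMonic_X_sub_C_eq_C_eval] at this
    linear_combination -this
  obtain ⟨h, hfh⟩ := hdiv f
  obtain ⟨h₁', hhh⟩ := hdiv h
  have hder : f.derivative.eval a₀ = h.eval a₀ := by
    conv_lhs => rw [hfh]
    simp
  obtain ⟨c, hc⟩ := isUnit_mk_iff_exists.mp h₂
  rw [hder] at hc
  -- the approximate idempotent
  let y₀ : B := algebraMap A B c * aeval t h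
  have hta : (t - algebraMap A B a₀) * aeval t h = -algebraMap A B (f.eval a₀) := by
    have := congr_arg (aeval t) hfh
    rw [hft, map_add, map_mul, map_sub, aeval_X, aeval_C, aeval_C] at this
    linear_combination -this
  have hty₀ : (t - algebraMap A B a₀) * y₀ ∈ I.map (algebraMap A B) := by
    have : (t - algebraMap A B a₀) * y₀ = algebraMap A B (-(c * f.eval a₀)) := by
      show (t - algebraMap A B a₀) * (algebraMap A B c * aeval t h) = _
      rw [map_neg, map_mul]
      linear_combination (algebraMap A B c) * hta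
    rw [this]
    exact Ideal.mem_map_of_mem _ (neg_mem (I.mul_mem_left _ h₁))
  have hy₀ : y₀ * y₀ - y₀ ∈ I.map (algebraMap A B) := by
    have h1 : aeval t h = (t - algebraMap A B a₀) * aeval t h₁' + algebraMap A B (h.eval a₀) := by
      have := congr_arg (aeval t) hhh
      rwa [map_add, map_mul, map_sub, aeval_X, aeval_C, aeval_C] at this
    have : y₀ * y₀ - y₀ = (algebraMap A B c * aeval t h₁') * ((t - algebraMap A B a₀) * y₀) +
        y₀ * algebraMap A B (h.eval a₀ * c - 1) := by
      show algebraMap A B c * aeval t h * (algebraMap A B c * aeval t h) -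
        algebraMap A B c * aeval t h = _
      rw [map_sub, map_mul, map_one]
      linear_combination (algebraMap A B c * algebraMap A B c * aeval t h) * h1
    rw [this]
    exact Ideal.add_mem _ (Ideal.mul_mem_left _ _ hty₀)
      (Ideal.mul_mem_left _ _ (Ideal.mem_map_of_mem _ hc))
  obtain ⟨e, he, hey⟩ := H y₀ hy₀
  let L := B ⧸ Ideal.span ({1 - e} : Set B)
  let π : B →ₐ[A] L := Ideal.Quotient.mkₐ A _
  have hπsurj : Function.Surjective π := Ideal.Quotient.mkₐ_surjective A _
  have hπe : π e = 1 := by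
    have : π (1 - e) = 0 := Ideal.Quotient.eq_zero_iff_mem.mpr (Ideal.mem_span_singleton_self _)
    rw [map_sub, map_one, sub_eq_zero] at this
    exact this.symm
  have hte : (t - algebraMap A B a₀) * e ∈ I.map (algebraMap A B) := by
    have : (t - algebraMap A B a₀) * e =
        (t - algebraMap A B a₀) * (e - y₀) + (t - algebraMap A B a₀) * y₀ := by ring
    rw [this]
    exact Ideal.add_mem _ (Ideal.mul_mem_left _ _ hey) hty₀
  have hπt : π t - algebraMap A L a₀ ∈ I.map (algebraMap A L) := by
    have : π t - algebraMap A L a₀ = π ((t - algebraMap A B a₀) * e) := by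
      rw [map_mul, hπe, mul_one, map_sub, π.commutes]
    rw [this]
    exact map_mem_map_of_algHom π hte
  haveI : Module.Finite A B := (AdjoinRoot.powerBasis' hf).finite
  haveI : Module.Free A B := Module.Free.of_basis (AdjoinRoot.powerBasis' hf).basis
  haveI : Module.Finite A L := Module.Finite.of_surjective π.toLinearMap hπsurj
  have hsurj : Function.Surjective (algebraMap A L) := by
    have hN : (⊤ : Submodule A L) ≤ LinearMap.range (Algebra.linearMap A L) := by
      apply Submodule.le_of_le_smul_of_le_jacobson_bot Module.Finite.fg_top hI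
      rintro x -
      obtain ⟨y, rfl⟩ := hπsurj x
      obtain ⟨p, rfl⟩ := AdjoinRoot.mk_surjective y
      have h1 : π (AdjoinRoot.mk f p) = aeval (π t) p := by
        rw [← AdjoinRoot.aeval_eq, aeval_algHom_apply]
      obtain ⟨q, hq⟩ := hdiv p
      have h2 : aeval (π t) p = algebraMap A L (p.eval a₀) +
          (π t - algebraMap A L a₀) * aeval (π t) q := by
        conv_lhs => rw [hq]
        rw [map_add, map_mul, map_sub, aeval_X, aeval_C, aeval_C]; ring
      rw [h1, h2]
      refine Submodule.add_mem_sup ⟨p.eval a₀, rfl⟩ ?_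
      rw [Ideal.smul_top_eq_map]
      exact Ideal.mul_mem_right _ _ hπt
    intro x
    exact hN (Submodule.mem_top (x := x))
  -- `L` is a direct summand of `B`, hence flat
  haveI : Module.Flat A L := by
    have hker : Ideal.span {1 - e} ≤ LinearMap.ker (LinearMap.mulLeft B e) := by
      rw [Ideal.span_le, Set.singleton_subset_iff]
      show e * (1 - e) = 0
      rw [mul_sub, mul_one, he.eq, sub_self]
    let i : L →ₗ[A] B := (Submodule.liftQ _ (LinearMap.mulLeft B e) hker).restrictScalars A
    have hi : ∀ y : B, i (π y) = e * y := fun y => rfl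
    haveI : Module.Projective A L := Module.Projective.of_split i π.toLinearMap (by
      ext x
      obtain ⟨y, rfl⟩ := hπsurj x
      show π (i (π y)) = π y
      rw [hi, map_mul, hπe, one_mul])
    infer_instance
  -- the map to `A/I`
  let ψ : B →ₐ[A] A ⧸ I := AdjoinRoot.liftAlgHom f (Algebra.ofId A (A ⧸ I))
    (Ideal.Quotient.mk I a₀) (by
      show eval₂ (algebraMap A (A ⧸ I)) (algebraMap A (A ⧸ I) a₀) f = 0
      rw [Polynomial.eval₂_at_apply]
      exact Ideal.Quotient.eq_zero_iff_mem.mpr h₁)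
  have hψt : ψ t = Ideal.Quotient.mk I a₀ := AdjoinRoot.liftAlgHom_root f _ _ _
  have hψI : I.map (algebraMap A B) ≤ RingHom.ker ψ.toRingHom := by
    rw [Ideal.map_le_iff_le_comap]
    intro x hx
    rw [Ideal.mem_comap, RingHom.mem_ker]
    show ψ (algebraMap A B x) = 0
    rw [ψ.commutes]
    exact Ideal.Quotient.eq_zero_iff_mem.mpr hx
  have hψI' : ∀ x ∈ I.map (algebraMap A B), ψ x = 0 := fun x hx => hψI hx
  have hψy₀ : ψ y₀ = 1 := by
    show ψ (algebraMap A B c * aeval t h) = 1
    rw [map_mul, ψ.commutes, ← aeval_algHom_apply, hψt]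
    have : aeval (Ideal.Quotient.mk I a₀) h = Ideal.Quotient.mk I (h.eval a₀) := by
      rw [← Ideal.Quotient.algebraMap_eq, aeval_algebraMap_apply, Polynomial.coe_aeval_eq_eval]
    rw [this, Ideal.Quotient.algebraMap_eq, ← map_mul, ← map_one (Ideal.Quotient.mk I),
      Ideal.Quotient.eq]
    have : c * h.eval a₀ - 1 = h.eval a₀ * c - 1 := by ring
    rw [this]; exact hc
  have hψe : ψ e = 1 := by
    have : ψ (e - y₀) = 0 := hψI' _ hey
    rw [map_sub, sub_eq_zero] at this
    rw [this, hψy₀]
  let ψL : L →ₐ[A] A ⧸ I := Ideal.Quotient.liftₐ _ ψ (by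
    intro x hx
    obtain ⟨y, rfl⟩ := Ideal.mem_span_singleton'.mp hx
    rw [map_mul, map_sub, map_one, hψe, sub_self, mul_zero])
  have hψLπ : ∀ y : B, ψL (π y) = ψ y := fun y => rfl
  have hker : RingHom.ker (algebraMap A L) ≤ Ideal.jacobson ⊥ := by
    intro x hx
    apply hI
    have : ψL (algebraMap A L x) = 0 := by rw [RingHom.mem_ker.mp hx, map_zero]
    rw [ψL.commutes] at this
    exact Ideal.Quotient.eq_zero_iff_mem.mp this
  have hbij := bijective_algebraMap_of_flat_of_surjective hsurj hker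
  let E : A ≃ₐ[A] L := AlgEquiv.ofBijective (Algebra.ofId A L) hbij
  let ρ : B →ₐ[A] A := (E.symm : L →ₐ[A] A).comp π
  refine ⟨ρ t, ?_, ?_⟩
  · show f.eval (ρ t) = 0
    rw [← Polynomial.coe_aeval_eq_eval, aeval_algHom_apply, hft, map_zero]
  · rw [← Ideal.Quotient.eq, ← hψt, ← hψLπ]
    have h1 : π t = algebraMap A L (ρ t) := by
      show π t = E (E.symm (π t))
      rw [E.apply_symm_apply]
    rw [h1, ψL.commutes]
    rfl

/-- Stacks 09XI (3) ⇒ (1): if for all finite `A`-algebras `B` (in the same universe) reduction mod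
`IB` is a bijection on idempotents, then `(A, I)` is a henselian pair. -/
theorem henselianRing_of_bijOn_idempotents
    (H : ∀ (B : Type u) [CommRing B] [Algebra A B], Module.Finite A B →
      Set.BijOn (Ideal.Quotient.mk (Ideal.map (algebraMap A B) I))
        {e : B | IsIdempotentElem e} {e | IsIdempotentElem e}) :
    HenselianRing A I := by
  have hI : I ≤ Ideal.jacobson ⊥ :=
    le_jacobson_of_injOn_idempotents fun B _ _ hB => (H B hB).injOn
  refine ⟨hI, fun f hf a₀ h₁ h₂ => ?_⟩
  apply exists_root_of_exists_idempotent hI f hf a₀ h₁ h₂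
  intro y₀ hy₀
  haveI : Module.Finite A (AdjoinRoot f) := (AdjoinRoot.powerBasis' hf).finite
  have hy : Ideal.Quotient.mk (I.map (algebraMap A (AdjoinRoot f))) y₀ ∈
      {e | IsIdempotentElem e} := by
    show _ * _ = _
    rw [← map_mul, Ideal.Quotient.eq]
    exact hy₀
  obtain ⟨e, he, hey⟩ := (H (AdjoinRoot f) inferInstance).surjOn hy
  exact ⟨e, he, Ideal.Quotient.eq.mp hey⟩

end Groth.Agent.H8.HensPair
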