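import Mathlib
import Groth.Agent.Lib.Helper8.HensPair.MultiHensel

set_option autoImplicit false
universe u
open MvPolynomial

namespace Groth.Agent.H8.SmoothLift

variable {A : Type u} [CommRing A]

/-- Chain rule for substitution in multivariate polynomials. -/
theorem pderiv_aeval {σ τ : Type*} [Fintype σ] (φ : σ → MvPolynomial τ A) (p : MvPolynomial σ A)
    (j : τ) :
    pderiv j (aeval φ p) = ∑ k, aeval φ (pderiv k p) * pderiv j (φ k) := by
  classical
  induction p using MvPolynomial.induction_on with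
  | C a => simp
  | add p q hp hq =>
    simp only [map_add, hp, hq, add_mul, Finset.sum_add_distrib]
  | mul_X p i hp =>
    have h1 : ∀ k, aeval φ (pderiv k (p * X i)) =
        aeval φ p * (if i = k then 1 else 0) + φ i * aeval φ (pderiv k p) := by
      intro k
      rw [Derivation.leibniz, smul_eq_mul, smul_eq_mul, map_add, map_mul, map_mul, aeval_X,
        pderiv_X, Pi.single_apply]
      congr 2
      split_ifs <;> simp
    rw [map_mul, aeval_X, Derivation.leibniz, smul_eq_mul, smul_eq_mul, hp]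
    simp only [h1, add_mul, Finset.sum_add_distrib]
    congr 1
    · rw [Finset.sum_eq_single i]
      · simp
      · intro k _ hk
        rw [if_neg (Ne.symm hk)]; simp
      · simp
    · rw [Finset.mul_sum]
      refine Finset.sum_congr rfl fun k _ => ?_
      ring

theorem eval_sub_eval_mem {σ : Type*} (I : Ideal A) (a b : σ → A) (h : ∀ k, a k - b k ∈ I)
    (p : MvPolynomial σ A) : eval a p - eval b p ∈ I := by
  rw [← Ideal.Quotient.eq]
  have h1 : ∀ c : σ → A, Ideal.Quotient.mk I (eval c p) =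
      eval₂ (Ideal.Quotient.mk I) (fun k => Ideal.Quotient.mk I (c k)) p := by
    intro c
    rw [eval, coe_eval₂Hom, eval₂_comp_left (Ideal.Quotient.mk I)]
    rfl
  rw [h1, h1]
  congr 1
  funext k
  exact Ideal.Quotient.eq.mpr (h k)

/-- Hensel's lemma for an underdetermined system whose Jacobian has a right inverse modulo `I`. -/
theorem exists_solution_of_rightInverse (I : Ideal A) [HenselianRing A I] {ι : Type} [Fintype ι]
    (n : ℕ) (g : Fin n → MvPolynomial ι A) (c₀ : ι → A) (W : ι → Fin n → A)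
    (h₀ : ∀ i, eval c₀ (g i) ∈ I)
    (hW : ∀ i j, (∑ k, eval c₀ (pderiv k (g i)) * W k j) - (if i = j then 1 else 0) ∈ I) :
    ∃ c : ι → A, (∀ i, eval c (g i) = 0) ∧ ∀ k, c k - c₀ k ∈ I := by
  classical
  let φ : ι → MvPolynomial (Fin n) A := fun k => C (c₀ k) + ∑ l, C (W k l) * X l
  let Q : Fin n → MvPolynomial (Fin n) A := fun i => aeval φ (g i)
  have hevalφ : ∀ (u : Fin n → A) (k : ι), eval u (φ k) = c₀ k + ∑ l, W k l * u l := by
    intro u k
    simp [φ]
  have hevalQ : ∀ (u : Fin n → A) (q : MvPolynomial ι A),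
      eval u (aeval φ q) = eval (fun k => c₀ k + ∑ l, W k l * u l) q := by
    intro u q
    induction q using MvPolynomial.induction_on with
    | C a => simp
    | add p q hp hq => simp only [map_add, hp, hq]
    | mul_X p i hp => simp only [map_mul, aeval_X, eval_X, hp, hevalφ]
  have hpφ : ∀ (k : ι) (j : Fin n), pderiv j (φ k) = C (W k j) := by
    intro k j
    simp only [φ, map_add, pderiv_C, zero_add, map_sum, Derivation.leibniz, pderiv_C, smul_zero,
      add_zero, pderiv_X, smul_eq_mul]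
    rw [Finset.sum_eq_single j]
    · simp
    · intro l _ hl
      simp [Pi.single_apply, hl]
    · simp
  have hzero : (fun k => c₀ k + ∑ l, W k l * (0 : Fin n → A) l) = c₀ := by
    funext k; simp
  have hJ : IsUnit (Ideal.Quotient.mk I
      (Matrix.of (fun i j => eval (0 : Fin n → A) (pderiv j (Q i)))).det) := by
    have h1 : (Matrix.of (fun i j => eval (0 : Fin n → A) (pderiv j (Q i)))).map
        (Ideal.Quotient.mk I) = 1 := by
      ext i j
      simp only [Matrix.map_apply, Matrix.of_apply, Q]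
      rw [pderiv_aeval, map_sum]
      simp only [map_mul, hevalQ, hzero, hpφ, eval_C]
      rw [Matrix.one_apply, Ideal.Quotient.eq.mpr (hW i j)]
      split_ifs <;> simp
    rw [RingHom.map_det, RingHom.mapMatrix_apply, h1, Matrix.det_one]
    exact isUnit_one
  have h₀' : ∀ i, eval (0 : Fin n → A) (Q i) ∈ I := by
    intro i
    simp only [Q]
    rw [hevalQ, hzero]
    exact h₀ i
  obtain ⟨u, hu, hu0⟩ := Groth.Agent.H8.HensPair.exists_solution_of_jacobian A I n Q 0 h₀' hJ
  refine ⟨fun k => c₀ k + ∑ l, W k l * u l, fun i => ?_, fun k => ?_⟩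
  · rw [← hevalQ]; exact hu i
  · rw [add_sub_cancel_left]
    refine Ideal.sum_mem _ fun l _ => Ideal.mul_mem_left _ _ ?_
    have := hu0 l
    simpa using this

section Taylor

variable {n : ℕ} (J : Ideal (MvPolynomial (Fin n) A))

theorem pderiv_mem_of_mem_sq {w : MvPolynomial (Fin n) A} (hw : w ∈ J ^ 2) (l : Fin n) :
    pderiv l w ∈ J := by
  rw [pow_two] at hw
  refine Submodule.mul_induction_on hw (fun u hu v hv => ?_) (fun x y hx hy => ?_)
  · rw [Derivation.leibniz, smul_eq_mul, smul_eq_mul]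
    exact Ideal.add_mem _ (Ideal.mul_mem_right _ _ hu) (Ideal.mul_mem_right _ _ hv)
  · rw [map_add]; exact Ideal.add_mem _ hx hy

/-- First-order Taylor expansion modulo `J²`. -/
theorem aeval_sub_eq (δ : Fin n → MvPolynomial (Fin n) A) (hδ : ∀ k, δ k ∈ J)
    (p : MvPolynomial (Fin n) A) :
    aeval (fun k => Ideal.Quotient.mk (J ^ 2) (X k - δ k)) p =
      Ideal.Quotient.mk (J ^ 2) (p - ∑ k, pderiv k p * δ k) := by
  induction p using MvPolynomial.induction_on with
  | C a =>
    simp only [aeval_C, pderiv_C, zero_mul, Finset.sum_const_zero, sub_zero]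
    rfl
  | add p q hp hq =>
    rw [map_add, hp, hq, ← map_add]
    congr 1
    simp only [map_add, add_mul, Finset.sum_add_distrib]
    ring
  | mul_X p i hp =>
    rw [map_mul, aeval_X, hp, ← map_mul, Ideal.Quotient.eq]
    have h1 : ∀ k, pderiv k (p * X i) * δ k =
        p * ((if i = k then 1 else 0) * δ k) + X i * (pderiv k p * δ k) := by
      intro k
      rw [Derivation.leibniz, smul_eq_mul, smul_eq_mul, pderiv_X, Pi.single_apply]
      ring
    simp only [h1, Finset.sum_add_distrib, ← Finset.mul_sum]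
    have h2 : ∑ k, (if i = k then (1 : MvPolynomial (Fin n) A) else 0) * δ k = δ i := by
      rw [Finset.sum_eq_single i]
      · simp
      · intro k _ hk; rw [if_neg (Ne.symm hk), zero_mul]
      · simp
    rw [h2]
    have h3 : (p - ∑ k, pderiv k p * δ k) * (X i - δ i) -
        (p * X i - (p * δ i + X i * ∑ k, pderiv k p * δ k)) =
        (∑ k, pderiv k p * δ k) * δ i := by ring
    rw [h3, pow_two]
    exact Ideal.mul_mem_mul (Ideal.sum_mem _ fun k _ => Ideal.mul_mem_left _ _ (hδ k)) (hδ i)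

end Taylor

theorem pderiv_inr_rename_inl {n : ℕ} (q : MvPolynomial (Fin n) A) (k : Fin n) :
    pderiv (Sum.inr k : Fin n ⊕ Fin n) (rename Sum.inl q) = 0 := by
  classical
  apply pderiv_eq_zero_of_notMem_vars
  intro h
  have := vars_rename (Sum.inl : Fin n → Fin n ⊕ Fin n) q h
  simp at this

theorem pderiv_inl_rename_inl {n : ℕ} (q : MvPolynomial (Fin n) A) (k : Fin n) :
    pderiv (Sum.inl k : Fin n ⊕ Fin n) (rename Sum.inl q) = rename Sum.inl (pderiv k q) :=
  pderiv_rename Sum.inl_injective k q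

/-- Smooth algebras over a henselian pair: lifting of `A/I`-points (case of base ring `A`). -/
theorem exists_lift_of_smooth (I : Ideal A) [hI : HenselianRing A I] (S : Type u) [CommRing S]
    [Algebra A S] [Algebra.Smooth A S] (σ : S →ₐ[A] A ⧸ I) :
    ∃ τ : S →ₐ[A] A, (Ideal.Quotient.mkₐ A I).comp τ = σ := by
  classical
  obtain ⟨n, π, hπ, hfg⟩ := (Algebra.FinitePresentation.out : ∃ (n : ℕ)
    (f : MvPolynomial (Fin n) A →ₐ[A] S), Function.Surjective f ∧ (RingHom.ker f.toRingHom).FG)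
  set J : Ideal (MvPolynomial (Fin n) A) := RingHom.ker π.toRingHom with hJ
  have hJmem : ∀ p, p ∈ J ↔ π p = 0 := fun p => Iff.rfl
  -- the section `s : S → P/J²`
  let q : (MvPolynomial (Fin n) A ⧸ J ^ 2) →ₐ[A] S := Ideal.Quotient.liftₐ (J ^ 2) π (by
    intro p hp
    exact (hJmem p).mp (Ideal.pow_le_self two_ne_zero hp))
  have hqmk : ∀ p, q (Ideal.Quotient.mk (J ^ 2) p) = π p := fun p => rfl
  have hq : Function.Surjective q := fun x => by
    obtain ⟨p, rfl⟩ := hπ x
    exact ⟨Ideal.Quotient.mk _ p, rfl⟩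
  have hqker : IsNilpotent (RingHom.ker (q : (MvPolynomial (Fin n) A ⧸ J ^ 2) →+* S)) := by
    refine ⟨2, ?_⟩
    have h1 : RingHom.ker (q : (MvPolynomial (Fin n) A ⧸ J ^ 2) →+* S) ≤
        J.map (Ideal.Quotient.mk (J ^ 2)) := by
      intro x hx
      obtain ⟨p, rfl⟩ := Ideal.Quotient.mk_surjective x
      exact Ideal.mem_map_of_mem _ ((hJmem p).mpr hx)
    rw [Ideal.zero_eq_bot, eq_bot_iff]
    refine (Ideal.pow_right_mono h1 2).trans ?_
    rw [← Ideal.map_pow, Ideal.map_quotient_self]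
  let s : S →ₐ[A] (MvPolynomial (Fin n) A ⧸ J ^ 2) :=
    Algebra.FormallySmooth.liftOfSurjective (AlgHom.id A S) q hq hqker
  have hs : ∀ x, q (s x) = x := fun x =>
    Algebra.FormallySmooth.liftOfSurjective_apply (AlgHom.id A S) q hq hqker x
  choose p₁ hp₁ using fun k : Fin n => Ideal.Quotient.mk_surjective (s (π (X k)))
  set δ : Fin n → MvPolynomial (Fin n) A := fun k => X k - p₁ k with hδdef
  have hδ : ∀ k, δ k ∈ J := by
    intro k
    rw [hJmem, hδdef, map_sub, ← hqmk (p₁ k), hp₁, hs, sub_self]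
  have hsX : ∀ k, s (π (X k)) = Ideal.Quotient.mk (J ^ 2) (X k - δ k) := by
    intro k
    rw [← hp₁ k, hδdef, sub_sub_cancel]
  have hT' : ∀ p, s (π p) = Ideal.Quotient.mk (J ^ 2) (p - ∑ k, pderiv k p * δ k) := by
    intro p
    rw [← aeval_sub_eq J δ hδ p]
    have : s.comp π = aeval (fun k => Ideal.Quotient.mk (J ^ 2) (X k - δ k)) := by
      apply MvPolynomial.algHom_ext
      intro k
      rw [AlgHom.comp_apply, hsX, aeval_X]
    exact AlgHom.congr_fun this p
  have hT : ∀ p ∈ J, p - ∑ k, pderiv k p * δ k ∈ J ^ 2 := by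
    intro p hp
    have := hT' p
    rw [(hJmem p).mp hp, map_zero, eq_comm, Ideal.Quotient.eq_zero_iff_mem] at this
    exact this
  -- the matrix `E = (∂δ_i/∂x_k)` is idempotent modulo `J`
  set E : Fin n → Fin n → MvPolynomial (Fin n) A := fun i k => pderiv k (δ i) with hEdef
  set r : Fin n → Fin n → MvPolynomial (Fin n) A := fun i l => E i l - ∑ k, E i k * E k l
    with hrdef
  have hr : ∀ i l, r i l ∈ J := by
    intro i l
    have h1 := pderiv_mem_of_mem_sq J (hT (δ i) (hδ i)) l
    have h2 : pderiv l (δ i - ∑ k, pderiv k (δ i) * δ k) =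
        r i l - ∑ k, pderiv l (E i k) * δ k := by
      rw [map_sub, map_sum]
      simp only [Derivation.leibniz, smul_eq_mul, Finset.sum_add_distrib, hrdef, hEdef]
      have : ∑ k, δ k * pderiv l (pderiv k (δ i)) = ∑ k, pderiv l (pderiv k (δ i)) * δ k :=
        Finset.sum_congr rfl fun k _ => mul_comm _ _
      rw [this]; ring
    rw [h2] at h1
    have h3 : ∑ k, pderiv l (E i k) * δ k ∈ J :=
      Ideal.sum_mem _ fun k _ => Ideal.mul_mem_left _ _ (hδ k)
    have := Ideal.add_mem _ h1 h3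
    rwa [sub_add_cancel] at this
  -- the approximate solution
  choose a₀ ha₀ using fun k : Fin n => Ideal.Quotient.mk_surjective (σ (π (X k)))
  have hF0 : ∀ p, Ideal.Quotient.mk I (eval a₀ p) = σ (π p) := by
    intro p
    have : (Ideal.Quotient.mkₐ A I).comp (aeval a₀) = σ.comp π := by
      apply MvPolynomial.algHom_ext
      intro k
      rw [AlgHom.comp_apply, AlgHom.comp_apply, aeval_X, Ideal.Quotient.mkₐ_eq_mk, ha₀]
    have h2 := AlgHom.congr_fun this p
    rw [AlgHom.comp_apply, AlgHom.comp_apply, Ideal.Quotient.mkₐ_eq_mk] at h2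
    rw [← h2, ← coe_aeval_eq_eval]
    rfl
  have hJ0 : ∀ p ∈ J, eval a₀ p ∈ I := by
    intro p hp
    rw [← Ideal.Quotient.eq_zero_iff_mem, hF0, (hJmem p).mp hp, map_zero]
  -- the enlarged system
  let inl : Fin n → Fin n ⊕ Fin n := Sum.inl
  let inr : Fin n → Fin n ⊕ Fin n := Sum.inr
  let g : Fin n → MvPolynomial (Fin n ⊕ Fin n) A := fun i =>
    rename inl (δ i) + X (inr i) - ∑ k, rename inl (E i k) * X (inr k)
  let c₀ : Fin n ⊕ Fin n → A := Sum.elim a₀ 0
  let E₀ : Fin n → Fin n → A := fun i k => eval a₀ (E i k)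
  let W : Fin n ⊕ Fin n → Fin n → A :=
    Sum.elim (fun k j => E₀ k j) (fun k j => (if k = j then 1 else 0) - E₀ k j)
  have hc₀l : ∀ (qq : MvPolynomial (Fin n) A), eval c₀ (rename inl qq) = eval a₀ qq := by
    intro qq
    rw [eval_rename]
    rfl
  have hc₀r : ∀ k, eval c₀ (X (inr k)) = 0 := fun k => by
    rw [eval_X]; rfl
  have hg₀ : ∀ i, eval c₀ (g i) ∈ I := by
    intro i
    simp only [g, map_add, map_sub, map_sum, map_mul, hc₀l, hc₀r, mul_zero,
      Finset.sum_const_zero, add_zero, sub_zero]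
    exact hJ0 _ (hδ i)
  have hgl : ∀ i k, eval c₀ (pderiv (inl k) (g i)) = E₀ i k := by
    intro i k
    simp only [g, map_add, map_sub, map_sum, Derivation.leibniz, smul_eq_mul, map_mul]
    rw [show pderiv (inl k) (rename inl (δ i)) = rename inl (pderiv k (δ i)) from
      pderiv_inl_rename_inl _ _]
    have h1 : ∀ l, pderiv (inl k) (X (inr l) : MvPolynomial (Fin n ⊕ Fin n) A) = 0 := by
      intro l
      exact pderiv_X_of_ne (by simp [inl, inr])
    simp only [h1, map_zero, mul_zero, zero_add, add_zero, hc₀r, zero_mul, Finset.sum_const_zero,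
      sub_zero, hc₀l]
    rfl
  have hgr : ∀ i k, eval c₀ (pderiv (inr k) (g i)) = (if i = k then 1 else 0) - E₀ i k := by
    intro i k
    simp only [g, map_add, map_sub, map_sum, Derivation.leibniz, smul_eq_mul, map_mul]
    have h0 : ∀ qq : MvPolynomial (Fin n) A, pderiv (inr k) (rename inl qq) = 0 :=
      fun qq => pderiv_inr_rename_inl qq k
    have h1 : ∀ l, pderiv (inr k) (X (inr l) : MvPolynomial (Fin n ⊕ Fin n) A) =
        if l = k then 1 else 0 := by
      intro l
      rw [pderiv_X, Pi.single_apply]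
      simp [inr, eq_comm]
    simp only [h0, h1, map_zero, zero_add, mul_zero, add_zero, hc₀l]
    congr 1
    · split_ifs <;> simp
    · rw [Finset.sum_eq_single k]
      · simp; rfl
      · intro l _ hl; simp [hl]
      · simp
  have hgW : ∀ i j, (∑ k, eval c₀ (pderiv k (g i)) * W k j) - (if i = j then 1 else 0) ∈ I := by
    intro i j
    rw [Fintype.sum_sum_type]
    have h1 : ∑ k, eval c₀ (pderiv (Sum.inl k) (g i)) * W (Sum.inl k) j = ∑ k, E₀ i k * E₀ k j :=
      Finset.sum_congr rfl fun k _ => by rw [hgl]; rfl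
    have h2 : ∑ k, eval c₀ (pderiv (Sum.inr k) (g i)) * W (Sum.inr k) j =
        ∑ k, ((if i = k then 1 else 0) - E₀ i k) * ((if k = j then 1 else 0) - E₀ k j) :=
      Finset.sum_congr rfl fun k _ => by rw [hgr]; rfl
    rw [h1, h2]
    have h3 : ∑ k, ((if i = k then (1 : A) else 0) - E₀ i k) * ((if k = j then 1 else 0) - E₀ k j) =
        (if i = j then 1 else 0) - E₀ i j - E₀ i j + ∑ k, E₀ i k * E₀ k j := by
      simp only [sub_mul, mul_sub, Finset.sum_sub_distrib, ite_mul, mul_ite, one_mul, zero_mul,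
        mul_one, mul_zero, Finset.sum_ite_eq, Finset.sum_ite_eq', Finset.mem_univ, if_true]
      ring
    rw [h3]
    have h4 : eval a₀ (r i j) = E₀ i j - ∑ k, E₀ i k * E₀ k j := by
      simp only [hrdef, map_sub, map_sum, map_mul]
      rfl
    have h5 : (∑ k, E₀ i k * E₀ k j + ((if i = j then 1 else 0) - E₀ i j - E₀ i j +
        ∑ k, E₀ i k * E₀ k j) - if i = j then 1 else 0) = -(2 * eval a₀ (r i j)) := by
      rw [h4]; ring
    rw [h5]
    exact neg_mem (Ideal.mul_mem_left _ _ (hJ0 _ (hr i j)))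
  obtain ⟨c, hc, hcc₀⟩ := exists_solution_of_rightInverse I n g c₀ W hg₀ hgW
  set a : Fin n → A := fun k => c (inl k) with hadef
  set y : Fin n → A := fun k => c (inr k) with hydef
  have haa₀ : ∀ k, a k - a₀ k ∈ I := fun k => hcc₀ (inl k)
  have hyI : ∀ k, y k ∈ I := fun k => by
    have := hcc₀ (inr k)
    simpa [c₀, inr] using this
  have hcl : ∀ (qq : MvPolynomial (Fin n) A), eval c (rename inl qq) = eval a qq := by
    intro qq
    rw [eval_rename]
    rfl
  have hstar : ∀ i, eval a (δ i) = -y i + ∑ k, eval a (E i k) * y k := by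
    intro i
    have := hc i
    simp only [g, map_add, map_sub, map_sum, map_mul, hcl, eval_X] at this
    have h2 : eval a (δ i) + y i - ∑ k, eval a (E i k) * y k = 0 := this
    linear_combination h2
  -- the ideal generated by the values of `J` at `a`
  set 𝔧 : Ideal A := J.map (eval a) with h𝔧def
  have h𝔧mem : ∀ p ∈ J, eval a p ∈ 𝔧 := fun p hp => Ideal.mem_map_of_mem _ hp
  have h𝔧I : 𝔧 ≤ I := by
    rw [h𝔧def, Ideal.map_le_iff_le_comap]
    intro p hp
    rw [Ideal.mem_comap]
    have h1 := eval_sub_eval_mem I a a₀ haa₀ p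
    have h2 := hJ0 p hp
    have := Ideal.add_mem _ h1 h2
    rwa [sub_add_cancel] at this
  have h𝔧sq : ∀ w ∈ J ^ 2, eval a w ∈ I * 𝔧 := by
    intro w hw
    have h1 : eval a w ∈ (J ^ 2).map (eval a) := Ideal.mem_map_of_mem _ hw
    rw [Ideal.map_pow, pow_two] at h1
    exact Ideal.mul_mono_left h𝔧I h1
  have hδ𝔧 : ∀ i, eval a (δ i) ∈ I * 𝔧 := by
    intro i
    have h1 := h𝔧sq _ (hT (δ i) (hδ i))
    have h2 : eval a (δ i) = eval a (δ i - ∑ k, pderiv k (δ i) * δ k) +
        ∑ k, eval a (E i k) * eval a (δ k) := by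
      simp only [map_sub, map_sum, map_mul]
      ring
    have h3 : ∑ k, eval a (E i k) * eval a (δ k) = -∑ l, y l * eval a (r i l) := by
      simp only [hstar, hrdef, map_sub, map_sum, map_mul, mul_add, mul_neg, Finset.sum_add_distrib,
        Finset.sum_neg_distrib, mul_sub, Finset.sum_sub_distrib, Finset.mul_sum]
      rw [Finset.sum_comm]
      have : ∀ l, ∑ k, eval a (E i k) * (eval a (E k l) * y l) =
          ∑ k, y l * (eval a (E i k) * eval a (E k l)) :=
        fun l => Finset.sum_congr rfl fun k _ => by ring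
      simp only [this]
      have h4 : ∑ k, eval a (E i k) * y k = ∑ k, y k * eval a (E i k) :=
        Finset.sum_congr rfl fun k _ => mul_comm _ _
      rw [h4]; ring
    rw [h2, h3]
    refine Ideal.add_mem _ h1 (neg_mem (Ideal.sum_mem _ fun l _ => ?_))
    exact Ideal.mul_mem_mul (hyI l) (h𝔧mem _ (hr i l))
  have h𝔧le : 𝔧 ≤ I • 𝔧 := by
    rw [smul_eq_mul, h𝔧def, Ideal.map_le_iff_le_comap]
    intro p hp
    rw [Ideal.mem_comap]
    have h1 := h𝔧sq _ (hT p hp)
    have h2 : eval a p = eval a (p - ∑ k, pderiv k p * δ k) +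
        ∑ k, eval a (pderiv k p) * eval a (δ k) := by
      simp only [map_sub, map_sum, map_mul]
      ring
    rw [h2]
    exact Ideal.add_mem _ h1 (Ideal.sum_mem _ fun k _ => Ideal.mul_mem_left _ _ (hδ𝔧 k))
  have h𝔧fg : 𝔧.FG := hfg.map _
  have h𝔧bot : 𝔧 = ⊥ := Submodule.eq_bot_of_le_smul_of_le_jacobson_bot I 𝔧 h𝔧fg h𝔧le hI.jac
  have hzero : ∀ p ∈ J, eval a p = 0 := by
    intro p hp
    have := h𝔧mem p hp
    rwa [h𝔧bot, Ideal.mem_bot] at this
  -- the lift
  let τ₀ : (MvPolynomial (Fin n) A ⧸ RingHom.ker π.toRingHom) →ₐ[A] A :=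
    Ideal.Quotient.liftₐ _ (aeval a) (by
      intro p hp
      have h := hzero p hp
      rw [← coe_aeval_eq_eval] at h
      exact h)
  let τ : S →ₐ[A] A := τ₀.comp (Ideal.quotientKerAlgEquivOfSurjective hπ).symm.toAlgHom
  have hτ : ∀ p, τ (π p) = eval a p := by
    intro p
    have h1 : (Ideal.quotientKerAlgEquivOfSurjective hπ).symm (π p) = Ideal.Quotient.mk _ p := by
      rw [AlgEquiv.symm_apply_eq]
      rfl
    show τ₀ ((Ideal.quotientKerAlgEquivOfSurjective hπ).symm (π p)) = _
    rw [h1]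
    show aeval a p = _
    rw [← coe_aeval_eq_eval]
    rfl
  refine ⟨τ, ?_⟩
  ext x
  obtain ⟨p, rfl⟩ := hπ x
  rw [AlgHom.comp_apply, hτ, Ideal.Quotient.mkₐ_eq_mk, ← hF0, Ideal.Quotient.eq]
  exact eval_sub_eval_mem I a a₀ haa₀ p

/-- Stacks 07M7: smooth algebras lift along henselian pairs. -/
theorem exists_lift_of_smooth' (R : Type u) [CommRing R] (S : Type u) [CommRing S]
    [Algebra R S] [Algebra.Smooth R S] (A : Type u) [CommRing A] [Algebra R A] (I : Ideal A)
    [HenselianRing A I] (σ : S →ₐ[R] A ⧸ I) :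
    ∃ τ : S →ₐ[R] A, (Ideal.Quotient.mkₐ R I).comp τ = σ := by
  let σ' : TensorProduct R A S →ₐ[A] A ⧸ I :=
    Algebra.TensorProduct.lift (Algebra.ofId A (A ⧸ I)) σ (fun _ _ => Commute.all _ _)
  obtain ⟨τ', hτ'⟩ := exists_lift_of_smooth I (TensorProduct R A S) σ'
  refine ⟨(τ'.restrictScalars R).comp Algebra.TensorProduct.includeRight, ?_⟩
  ext x
  have h1 := AlgHom.congr_fun hτ' ((1 : A) ⊗ₜ[R] x)
  simp only [AlgHom.comp_apply, Ideal.Quotient.mkₐ_eq_mk] at h1
  simp only [AlgHom.comp_apply, Ideal.Quotient.mkₐ_eq_mk, AlgHom.restrictScalars_apply,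
    Algebra.TensorProduct.includeRight_apply]
  rw [h1]
  simp [σ']

end Groth.Agent.H8.SmoothLift
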