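import Mathlib
import Groth.Agent.Lib.Helper8.HensPair.Integral

universe u
open Polynomial TensorProduct

namespace Groth.Agent.H8.HensPair

theorem aeval_idemPoly_of_isIdempotentElem' {A : Type*} [CommRing A] {C : Type*} [Ring C]
    [Algebra A C] {y : C} (hy : IsIdempotentElem y) (d : ℕ) (hd : 0 < d) :
    aeval y (idemPoly A d) = y := by
  obtain ⟨d, rfl⟩ := Nat.exists_eq_succ_of_ne_zero hd.ne'
  simp only [idemPoly, map_pow, map_sub, map_one, aeval_X]
  rw [hy.one_sub.pow_succ_eq, sub_sub_cancel, hy.pow_succ_eq]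

/-- The universal situation for lifting idempotents: if `g ≡ X^d mod I` is monic, then in
`A[X]/(g(X² - X))` the approximate idempotent `Q(X)` lifts to an idempotent. -/
theorem exists_idempotent_adjoinRoot_comp {A : Type u} [CommRing A] (I : Ideal A)
    [HenselianRing A I] (g : A[X]) (hgmon : g.Monic)
    (hgI : ∀ i, (g - X ^ g.natDegree).coeff i ∈ I) :
    ∃ e : AdjoinRoot (g.comp (X ^ 2 - X)), IsIdempotentElem e ∧
      e - aeval (AdjoinRoot.root (g.comp (X ^ 2 - X))) (idemPoly A g.natDegree) ∈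
        I.map (algebraMap A (AdjoinRoot (g.comp (X ^ 2 - X)))) := by
  set d := g.natDegree with hd
  set f : A[X] := g.comp (X ^ 2 - X) with hf
  rcases subsingleton_or_nontrivial A with hA | hA
  · haveI : Subsingleton (AdjoinRoot f) := by
      refine ⟨fun x y => ?_⟩
      rw [← one_smul A x, ← one_smul A y, Subsingleton.elim (1 : A) 0, zero_smul, zero_smul]
    exact ⟨0, IsIdempotentElem.zero, by
      rw [Subsingleton.elim (0 - _) 0]; exact Ideal.zero_mem _⟩
  have hq2 : (X ^ 2 - X : A[X]).natDegree = 2 := by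
    rw [natDegree_sub_eq_left_of_natDegree_lt] <;> simp
  have hqmon : (X ^ 2 - X : A[X]).Monic := by
    apply (monic_X_pow 2).sub_of_left
    rw [degree_X_pow, degree_X]; norm_num
  have hfmon : f.Monic := hgmon.comp hqmon (by rw [hq2]; norm_num)
  have hfI : ∀ i, (f - (X ^ 2 - X) ^ d).coeff i ∈ I := by
    have : f - (X ^ 2 - X) ^ d = (g - X ^ d).comp (X ^ 2 - X) := by
      rw [sub_comp, X_pow_comp]
    rw [this]
    intro i
    rw [← Ideal.Quotient.eq_zero_iff_mem, ← coeff_map, Polynomial.map_comp]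
    have : (g - X ^ d).map (Ideal.Quotient.mk I) = 0 := by
      ext j
      rw [coeff_map, coeff_zero]
      exact Ideal.Quotient.eq_zero_iff_mem.mpr (hgI j)
    rw [this, zero_comp, coeff_zero]
  let B' := AdjoinRoot f
  haveI : Module.Free A B' := Module.Free.of_basis (AdjoinRoot.powerBasis' hfmon).basis
  haveI : Module.Finite A B' := (AdjoinRoot.powerBasis' hfmon).finite
  let t : B' := AdjoinRoot.root f
  have hft : aeval t f = 0 := AdjoinRoot.aeval_eq f ▸ AdjoinRoot.mk_self
  obtain ⟨W, hW⟩ := idemPoly_mul_one_sub A d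
  have hQ : aeval t (idemPoly A d) * aeval t (idemPoly A d) - aeval t (idemPoly A d) ∈
      I.map (algebraMap A B') := by
    rw [← map_mul, ← map_sub, hW, map_mul]
    apply Ideal.mul_mem_right
    have : aeval t ((X ^ 2 - X : A[X]) ^ d) = -aeval t (f - (X ^ 2 - X) ^ d) := by
      rw [map_sub, hft]; ring
    rw [this]
    exact neg_mem (aeval_mem_map_of_coeff_mem t hfI)
  exact exists_idempotent_of_free I (aeval t (idemPoly A d)) hQ

/-- Lifting idempotents along an algebra map of possibly noncommutative algebras, given an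
integrality-type condition on `b² - b`. -/
theorem exists_idempotent_of_algHom {A : Type u} [CommRing A] (I : Ideal A) [HenselianRing A I]
    {E E' : Type*} [Ring E] [Ring E'] [Algebra A E] [Algebra A E'] (Θ : E →ₐ[A] E')
    (hI : ∀ r ∈ I, algebraMap A E' r = 0) (b : E) (hb : IsIdempotentElem (Θ b))
    (g : A[X]) (hg : g.Monic) (hd : 0 < g.natDegree)
    (hgI : ∀ i, (g - X ^ g.natDegree).coeff i ∈ I) (hgb : aeval (b * b - b) g = 0) :
    ∃ e : E, IsIdempotentElem e ∧ Θ e = Θ b := by
  set f : A[X] := g.comp (X ^ 2 - X) with hf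
  have hfb : aeval b f = 0 := by
    rw [hf, aeval_comp]
    have : aeval b (X ^ 2 - X : A[X]) = b * b - b := by simp [sq]
    rw [this, hgb]
  let Φ : AdjoinRoot f →ₐ[A] E := Ideal.Quotient.liftₐ (Ideal.span {f}) (aeval b) (by
    intro a ha
    obtain ⟨c, rfl⟩ := Ideal.mem_span_singleton'.mp ha
    rw [map_mul, hfb, mul_zero])
  have hΦt : Φ (AdjoinRoot.root f) = b := by
    show Φ (Ideal.Quotient.mk _ X) = b
    show aeval b X = b
    exact aeval_X b
  obtain ⟨e', he', hee'⟩ := exists_idempotent_adjoinRoot_comp I g hg hgI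
  let Ψ : AdjoinRoot f →ₐ[A] E' := Θ.comp Φ
  have hΨI : I.map (algebraMap A (AdjoinRoot f)) ≤ RingHom.ker Ψ.toRingHom := by
    rw [Ideal.map_le_iff_le_comap]
    intro x hx
    rw [Ideal.mem_comap, RingHom.mem_ker]
    show Ψ (algebraMap A _ x) = 0
    rw [Ψ.commutes]
    exact hI x hx
  refine ⟨Φ e', he'.map Φ, ?_⟩
  have h1 : Ψ (e' - aeval (AdjoinRoot.root f) (idemPoly A g.natDegree)) = 0 := hΨI hee'
  rw [map_sub, sub_eq_zero, ← aeval_algHom_apply] at h1
  have h2 : Ψ (AdjoinRoot.root f) = Θ b := by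
    show Θ (Φ _) = _
    rw [hΦt]
  rw [h2, aeval_idemPoly_of_isIdempotentElem' hb _ hd] at h1
  exact h1

end Groth.Agent.H8.HensPair
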