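import Mathlib
import Groth.Agent.Lib.Helper8.HensPair.NCIdem

universe u
open Polynomial TensorProduct

namespace Groth.Agent.H8.HensPair

/-- Lifting idempotent endomorphisms of `(R/I) ⊗ F` for `F` finite free over a henselian pair. -/
theorem exists_idempotent_end {R : Type u} [CommRing R] (I : Ideal R) [h : HenselianRing R I]
    (F : Type*) [AddCommGroup F] [Module R F] [Module.Free R F] [Module.Finite R F]
    (ē : Module.End (R ⧸ I) ((R ⧸ I) ⊗[R] F)) (hē : IsIdempotentElem ē) :
    ∃ E : Module.End R F, IsIdempotentElem E ∧ E.baseChange (R ⧸ I) = ē := by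
  rcases subsingleton_or_nontrivial (R ⧸ I) with hk | hk
  · refine ⟨0, IsIdempotentElem.zero, ?_⟩
    haveI : Subsingleton ((R ⧸ I) ⊗[R] F) := Module.subsingleton (R ⧸ I) _
    exact Subsingleton.elim _ _
  haveI : Nontrivial R := (Ideal.Quotient.mk I).domain_nontrivial
  let q : F →ₗ[R] (R ⧸ I) ⊗[R] F := TensorProduct.mk R (R ⧸ I) F 1
  have hq : Function.Surjective q := by
    intro x
    induction x using TensorProduct.induction_on with
    | zero => exact ⟨0, map_zero _⟩
    | tmul a v =>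
      obtain ⟨r, rfl⟩ := Ideal.Quotient.mk_surjective a
      refine ⟨r • v, ?_⟩
      show (1 : R ⧸ I) ⊗ₜ[R] (r • v) = _
      rw [← TensorProduct.smul_tmul, ← Ideal.Quotient.algebraMap_eq, Algebra.smul_def, mul_one]
    | add x y hx hy =>
      obtain ⟨a, rfl⟩ := hx
      obtain ⟨b, rfl⟩ := hy
      exact ⟨a + b, map_add _ _ _⟩
  obtain ⟨b, hb⟩ := Module.projective_lifting_property q ((ē.restrictScalars R).comp q) hq
  have hbē : Module.End.baseChangeHom R (R ⧸ I) F b = ē := by
    apply TensorProduct.AlgebraTensorModule.ext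
    intro a v
    have hab : a ⊗ₜ[R] v = a • ((1 : R ⧸ I) ⊗ₜ[R] v) := by
      rw [TensorProduct.smul_tmul', smul_eq_mul, mul_one]
    rw [hab, map_smul, map_smul]
    congr 1
    exact LinearMap.congr_fun hb v
  let z : Module.End R F := b * b - b
  have hz : Module.End.baseChangeHom R (R ⧸ I) F z = 0 := by
    rw [map_sub, map_mul, hbē, hē.eq, sub_self]
  set g : R[X] := z.charpoly * X with hg
  have hgmon : g.Monic := (LinearMap.charpoly_monic z).mul monic_X
  have hgdeg : g.natDegree = Module.finrank R F + 1 := by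
    rw [hg, (LinearMap.charpoly_monic z).natDegree_mul monic_X, natDegree_X,
      LinearMap.charpoly_natDegree]
  have hgI : ∀ i, (g - X ^ g.natDegree).coeff i ∈ I := by
    intro i
    rw [← Ideal.Quotient.eq_zero_iff_mem, ← coeff_map]
    have : (g - X ^ g.natDegree).map (Ideal.Quotient.mk I) = 0 := by
      rw [Polynomial.map_sub, Polynomial.map_pow, map_X, hgdeg, hg, Polynomial.map_mul, map_X]
      have h1 : z.charpoly.map (Ideal.Quotient.mk I) = (z.baseChange (R ⧸ I)).charpoly :=
        (LinearMap.charpoly_baseChange z (R ⧸ I)).symm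
      have h2 : z.baseChange (R ⧸ I) = 0 := hz
      rw [h1, h2, LinearMap.charpoly_zero, Module.finrank_baseChange, pow_succ, sub_self]
    rw [this, coeff_zero]
  have hgz : aeval (b * b - b) g = 0 := by
    rw [hg, map_mul, LinearMap.aeval_self_charpoly, zero_mul]
  have hIE : ∀ r ∈ I, algebraMap R (Module.End (R ⧸ I) ((R ⧸ I) ⊗[R] F)) r = 0 := by
    intro r hr
    rw [IsScalarTower.algebraMap_apply R (R ⧸ I) (Module.End (R ⧸ I) ((R ⧸ I) ⊗[R] F)),
      Ideal.Quotient.algebraMap_eq, Ideal.Quotient.eq_zero_iff_mem.mpr hr, map_zero]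
  have hbidem : IsIdempotentElem (Module.End.baseChangeHom R (R ⧸ I) F b) := by
    rw [hbē]; exact hē
  let Θ : Module.End R F →ₐ[R] Module.End (R ⧸ I) ((R ⧸ I) ⊗[R] F) :=
    Module.End.baseChangeHom R (R ⧸ I) F
  obtain ⟨E, hE, hEb⟩ := exists_idempotent_of_algHom (E := Module.End R F)
    (E' := Module.End (R ⧸ I) ((R ⧸ I) ⊗[R] F)) I Θ
    hIE b hbidem g hgmon (by rw [hgdeg]; omega) hgI hgz
  exact ⟨E, hE, hEb.trans hbē⟩

end Groth.Agent.H8.HensPair
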