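import Mathlib

/-!
# Projective modules modulo an ideal in the Jacobson radical (helper8)

* `ker_mk_one`, `mk_one_surjective`: the map `P → (R/I) ⊗ P`, `x ↦ 1 ⊗ x` is surjective with kernel
  `I • ⊤`.
* `surjective_of_sub_mem_smul`: an endomorphism of a finite module congruent to the identity
  modulo `I ⊆ rad R` is bijective.
* `nonempty_linearEquiv_of_tensor_equiv`: finite projective modules isomorphic modulo `I ⊆ rad R`
  are isomorphic.
-/

universe u
open TensorProduct

namespace Groth.Agent.H8.HensPair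

variable {R : Type*} [CommRing R] (I : Ideal R)

theorem ker_mk_one (P : Type*) [AddCommGroup P] [Module R P] :
    LinearMap.ker (TensorProduct.mk R (R ⧸ I) P 1) = I • (⊤ : Submodule R P) := by
  have h := TensorProduct.quotTensorEquivQuotSMul_comp_mk (M := P) I
  have : LinearMap.ker (TensorProduct.mk R (R ⧸ I) P 1) =
      LinearMap.ker ((TensorProduct.quotTensorEquivQuotSMul P I).toLinearMap ∘ₗ
        TensorProduct.mk R (R ⧸ I) P 1) := by
    rw [LinearMap.ker_comp, LinearEquiv.ker, Submodule.comap_bot]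
  rw [this, h, Submodule.ker_mkQ]

theorem mk_one_surjective (P : Type*) [AddCommGroup P] [Module R P] :
    Function.Surjective (TensorProduct.mk R (R ⧸ I) P 1) := by
  have h := TensorProduct.quotTensorEquivQuotSMul_symm_comp_mkQ (M := P) I
  rw [← h]
  exact (TensorProduct.quotTensorEquivQuotSMul P I).symm.surjective.comp
    (Submodule.mkQ_surjective _)

/-- An endomorphism of a finite module which is the identity modulo `I ⊆ rad R` is bijective. -/
theorem bijective_of_sub_mem_smul {P : Type*} [AddCommGroup P] [Module R P] [Module.Finite R P]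
    (hI : I ≤ Ideal.jacobson ⊥) (θ : P →ₗ[R] P)
    (h : ∀ x, θ x - x ∈ I • (⊤ : Submodule R P)) : Function.Bijective θ := by
  have hsurj : Function.Surjective θ := by
    rw [← LinearMap.range_eq_top, eq_top_iff]
    apply Submodule.le_of_le_smul_of_le_jacobson_bot Module.Finite.fg_top hI
    rintro x -
    have : x = θ x + -(θ x - x) := by abel
    rw [this]
    exact Submodule.add_mem_sup (LinearMap.mem_range_self θ x) (Submodule.neg_mem _ (h x))
  exact ⟨OrzechProperty.injective_of_surjective_endomorphism θ hsurj, hsurj⟩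

/-- Finite projective modules which become isomorphic modulo an ideal contained in the Jacobson
radical are isomorphic. -/
theorem nonempty_linearEquiv_of_tensor_equiv (hI : I ≤ Ideal.jacobson ⊥)
    (P₁ P₂ : Type*) [AddCommGroup P₁] [Module R P₁] [AddCommGroup P₂]
    [Module R P₂] [Module.Finite R P₁] [Module.Projective R P₁] [Module.Finite R P₂]
    [Module.Projective R P₂]
    (e : TensorProduct R (R ⧸ I) P₁ ≃ₗ[R ⧸ I] TensorProduct R (R ⧸ I) P₂) :
    Nonempty (P₁ ≃ₗ[R] P₂) := by
  let m₁ := TensorProduct.mk R (R ⧸ I) P₁ 1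
  let m₂ := TensorProduct.mk R (R ⧸ I) P₂ 1
  let eR : TensorProduct R (R ⧸ I) P₁ ≃ₗ[R] TensorProduct R (R ⧸ I) P₂ := e.restrictScalars R
  obtain ⟨φ, hφ⟩ := Module.projective_lifting_property m₂ (eR.toLinearMap ∘ₗ m₁)
    (mk_one_surjective I P₂)
  obtain ⟨ψ, hψ⟩ := Module.projective_lifting_property m₁ (eR.symm.toLinearMap ∘ₗ m₂)
    (mk_one_surjective I P₁)
  have h1 : Function.Bijective (ψ ∘ₗ φ) := by
    apply bijective_of_sub_mem_smul I hI
    intro x
    rw [← ker_mk_one I P₁, LinearMap.mem_ker, map_sub, sub_eq_zero]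
    have e1 : m₁ (ψ (φ x)) = eR.symm (m₂ (φ x)) := LinearMap.congr_fun hψ (φ x)
    have e2 : m₂ (φ x) = eR (m₁ x) := LinearMap.congr_fun hφ x
    show m₁ (ψ (φ x)) = m₁ x
    rw [e1, e2, LinearEquiv.symm_apply_apply]
  have h2 : Function.Bijective (φ ∘ₗ ψ) := by
    apply bijective_of_sub_mem_smul I hI
    intro x
    rw [← ker_mk_one I P₂, LinearMap.mem_ker, map_sub, sub_eq_zero]
    have e1 : m₁ (ψ x) = eR.symm (m₂ x) := LinearMap.congr_fun hψ x
    have e2 : m₂ (φ (ψ x)) = eR (m₁ (ψ x)) := LinearMap.congr_fun hφ (ψ x)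
    show m₂ (φ (ψ x)) = m₂ x
    rw [e2, e1, LinearEquiv.apply_symm_apply]
  have hinj : Function.Injective φ := by
    have : Function.Injective (ψ ∘ φ) := h1.1
    exact Function.Injective.of_comp this
  have hsurj : Function.Surjective φ := by
    have : Function.Surjective (φ ∘ ψ) := h2.2
    exact Function.Surjective.of_comp this
  exact ⟨LinearEquiv.ofBijective φ ⟨hinj, hsurj⟩⟩

end Groth.Agent.H8.HensPair
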