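import Mathlib
import Groth.Agent.Lib.Helper8.HensPair.SmoothLift

set_option autoImplicit false
universe u
open AlgebraicGeometry CategoryTheory IsLocalRing

namespace Groth.Agent.H8.SmoothSection

theorem exists_section (A : Type u) [CommRing A] [HenselianLocalRing A]
    {X : Scheme.{u}} (f : X ⟶ Spec (CommRingCat.of A)) [Smooth f]
    (u₀ : Spec (CommRingCat.of (IsLocalRing.ResidueField A)) ⟶ X)
    (h₀ : u₀ ≫ f = Spec.map (CommRingCat.ofHom (IsLocalRing.residue A))) :
    ∃ u : Spec (CommRingCat.of A) ⟶ X, u ≫ f = 𝟙 _ ∧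
      Spec.map (CommRingCat.ofHom (IsLocalRing.residue A)) ≫ u = u₀ := by
  let y₀ : Spec (CommRingCat.of (ResidueField A)) := (default : PrimeSpectrum (ResidueField A))
  obtain ⟨V, hV, hxV, -⟩ := exists_isAffineOpen_mem_and_subset (x := u₀.base y₀)
    (U := ⊤) trivial
  let j := hV.fromSpec
  have hrange : Set.range u₀.base ⊆ Set.range j.base := by
    rw [hV.range_fromSpec]
    rintro _ ⟨y, rfl⟩
    have : y = y₀ := Subsingleton.elim (α := PrimeSpectrum (ResidueField A)) _ _
    rw [this]; exact hxV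
  let v₀ := IsOpenImmersion.lift j u₀ hrange
  have hv₀ : v₀ ≫ j = u₀ := IsOpenImmersion.lift_fac _ _ _
  let g := j ≫ f
  let φ : CommRingCat.of A ⟶ Γ(X, V) := Spec.preimage g
  have hφ : Spec.map φ = g := Spec.map_preimage g
  let ψ : Γ(X, V) ⟶ CommRingCat.of (ResidueField A) := Spec.preimage v₀
  have hψ : Spec.map ψ = v₀ := Spec.map_preimage v₀
  have hsm : Smooth (Spec.map φ) := by rw [hφ]; infer_instance
  have hφsm : φ.hom.Smooth := (HasRingHomProperty.Spec_iff (P := @Smooth)).mp hsm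
  have hcomp : φ ≫ ψ = CommRingCat.ofHom (residue A) := by
    apply Spec.map_injective
    rw [Spec.map_comp, hφ, hψ, ← h₀, ← hv₀, Category.assoc]
  letI : Algebra A Γ(X, V) := φ.hom.toAlgebra
  haveI : Algebra.Smooth A Γ(X, V) := hφsm
  let σ : Γ(X, V) →ₐ[A] A ⧸ maximalIdeal A :=
    { ψ.hom with
      commutes' := fun a => by
        have := congrArg (fun t => t.hom a) hcomp
        exact this }
  obtain ⟨τ, hτ⟩ := Groth.Agent.H8.SmoothLift.exists_lift_of_smooth' A Γ(X, V) A (maximalIdeal A) σ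
  refine ⟨Spec.map (CommRingCat.ofHom τ.toRingHom) ≫ j, ?_, ?_⟩
  · rw [Category.assoc]
    show Spec.map (CommRingCat.ofHom τ.toRingHom) ≫ g = _
    rw [← hφ, ← Spec.map_comp]
    have : φ ≫ CommRingCat.ofHom τ.toRingHom = 𝟙 _ := by
      ext a
      exact τ.commutes a
    rw [this, Spec.map_id]
  · rw [← Category.assoc, ← Spec.map_comp, ← hv₀, ← hψ]
    congr 2
    ext b
    exact AlgHom.congr_fun hτ b

end Groth.Agent.H8.SmoothSection
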