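import Mathlib
import Groth.Agent.Lib.Helper8.HensPair.Basic
import Groth.Agent.Lib.Helper8.HensPair.Integral

universe u
open Polynomial TensorProduct

namespace Groth.Agent.H8.HensPair

/-- Two algebra maps out of an unramified algebra which agree modulo an ideal contained in the
Jacobson radical are equal. -/
theorem algHom_ext_of_unramified {A B₁ B₂ : Type*} [CommRing A] [CommRing B₁] [CommRing B₂]
    [Algebra A B₁] [Algebra A B₂] [Algebra.FormallyUnramified A B₁] [Algebra.EssFiniteType A B₁]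
    (J : Ideal B₂) (hJ : J ≤ Ideal.jacobson ⊥) (φ φ' : B₁ →ₐ[A] B₂)
    (h : ∀ b, φ b - φ' b ∈ J) : φ = φ' := by
  let Φ : B₁ ⊗[A] B₁ →ₐ[A] B₂ := Algebra.TensorProduct.lift φ φ' (fun _ _ => Commute.all _ _)
  have hΦ : ∀ a b, Φ (a ⊗ₜ b) = φ a * φ' b := fun a b => Algebra.TensorProduct.lift_tmul _ _ _ _ _
  let t := Algebra.FormallyUnramified.elem A B₁
  have h1 : (Ideal.Quotient.mkₐ A J).comp Φ =
      ((Ideal.Quotient.mkₐ A J).comp φ).comp (Algebra.TensorProduct.lmul' A) := by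
    apply Algebra.TensorProduct.ext'
    intro a b
    show Ideal.Quotient.mk J (Φ (a ⊗ₜ b)) = Ideal.Quotient.mk J (φ (a * b))
    rw [hΦ, Ideal.Quotient.eq, map_mul φ, ← mul_sub]
    exact J.mul_mem_left _ (by have := neg_mem (h b); rwa [neg_sub] at this)
  have h2 : Φ t - 1 ∈ J := by
    have := DFunLike.congr_fun h1 t
    have h3 : Ideal.Quotient.mk J (Φ t) = Ideal.Quotient.mk J (φ (Algebra.TensorProduct.lmul' A t)) :=
      this
    rw [Algebra.FormallyUnramified.lmul_elem, map_one] at h3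
    rw [← Ideal.Quotient.eq, h3]
  have h3 : IsUnit (Φ t) := by
    have := Ideal.mem_jacobson_bot.mp (hJ h2) 1
    rwa [mul_one, sub_add_cancel] at this
  ext s
  have h4 := congr_arg Φ (Algebra.FormallyUnramified.one_tmul_sub_tmul_one_mul_elem (R := A) s)
  rw [map_mul, map_sub, hΦ, hΦ, map_one, map_one, one_mul, mul_one, map_zero] at h4
  have h5 := h3.mul_left_eq_zero.mp h4
  exact (sub_eq_zero.mp h5).symm

/-- Lifting algebra maps out of an étale algebra along `B₂ → B₂/IB₂` for a henselian pair. -/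
theorem exists_algHom_lift {A : Type*} [CommRing A] (I : Ideal A) {B₁ B₂ : Type*} [CommRing B₁]
    [CommRing B₂] [Algebra A B₁] [Algebra A B₂] [Algebra.Etale A B₁]
    [HenselianRing B₂ (I.map (algebraMap A B₂))]
    (ψ : B₁ →ₐ[A] B₂ ⧸ I.map (algebraMap A B₂)) :
    ∃ φ : B₁ →ₐ[A] B₂, ∀ b, Ideal.Quotient.mk (I.map (algebraMap A B₂)) (φ b) = ψ b := by
  let J := I.map (algebraMap A B₂)
  let C := B₂ ⊗[A] B₁
  let σ : C →ₐ[B₂] B₂ ⧸ J := Algebra.TensorProduct.lift (Algebra.ofId B₂ (B₂ ⧸ J)) ψ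
    (fun _ _ => Commute.all _ _)
  obtain ⟨ρ, hρ⟩ := exists_lift_of_henselianRing (I := J) C σ
  refine ⟨(ρ.restrictScalars A).comp Algebra.TensorProduct.includeRight, fun b => ?_⟩
  have := DFunLike.congr_fun hρ (1 ⊗ₜ b)
  have h1 : σ (1 ⊗ₜ b) = ψ b := by
    show Algebra.TensorProduct.lift _ _ _ _ = _
    rw [Algebra.TensorProduct.lift_tmul, map_one, one_mul]
  rw [h1] at this
  exact this

end Groth.Agent.H8.HensPair
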