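import Mathlib
import Groth.Agent.Lib.Helper8.HensPair.Sup

open Polynomial

namespace Groth.Agent.H8.HensPair

/-- Henselian pairs transport along ring isomorphisms. -/
theorem henselianRing_of_ringEquiv {B B' : Type*} [CommRing B] [CommRing B'] (e : B ≃+* B')
    (J : Ideal B) [h : HenselianRing B J] (J' : Ideal B')
    (hmem : ∀ x : B', x ∈ J' ↔ e.symm x ∈ J) : HenselianRing B' J' := by
  refine ⟨?_, ?_⟩
  · intro x hx
    rw [Ideal.mem_jacobson_bot]
    intro y
    have h1 := Ideal.mem_jacobson_bot.mp (h.jac ((hmem x).mp hx)) (e.symm y)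
    have h2 := h1.map e
    simpa using h2
  · intro f hf a₀ h₁ h₂
    have hev : ∀ p : B'[X], (p.map (e.symm : B' →+* B)).eval (e.symm a₀) = e.symm (p.eval a₀) := by
      intro p
      rw [eval_map]
      exact Polynomial.eval₂_at_apply (e.symm : B' →+* B) a₀
    obtain ⟨a, ha1, ha2⟩ := h.is_henselian (f.map (e.symm : B' →+* B)) (hf.map _) (e.symm a₀)
      (by rw [hev]; exact (hmem _).mp h₁)
      (by
        rw [derivative_map, hev]
        obtain ⟨c, hc⟩ := isUnit_mk_iff_exists.mp h₂
        apply isUnit_mk_iff_exists.mpr
        refine ⟨e.symm c, ?_⟩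
        have := (hmem _).mp hc
        simpa using this)
    refine ⟨e a, ?_, ?_⟩
    · have h3 : (f.map (e.symm : B' →+* B)).eval a = 0 := ha1
      rw [eval_map] at h3
      have h4 := congrArg e h3
      rw [map_zero] at h4
      have h5 : e (eval₂ (e.symm : B' →+* B) a f) = f.eval (e a) := by
        have := Polynomial.hom_eval₂ f (e.symm : B' →+* B) (e : B →+* B') a
        rw [show ((e : B →+* B').comp (e.symm : B' →+* B)) = RingHom.id B' from by
          ext b; exact e.apply_symm_apply b, eval₂_id] at this
        exact this
      rw [h5] at h4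
      exact h4
    · rw [hmem, map_sub, e.symm_apply_apply]
      exact ha2

/-- Henselian pairs transport along algebra isomorphisms (extension of an ideal of the base). -/
theorem henselianRing_map_of_algEquiv {A B B' : Type*} [CommRing A] [CommRing B] [CommRing B']
    [Algebra A B] [Algebra A B'] (e : B ≃ₐ[A] B') (I : Ideal A)
    [h : HenselianRing B (I.map (algebraMap A B))] :
    HenselianRing B' (I.map (algebraMap A B')) := by
  apply henselianRing_of_ringEquiv e.toRingEquiv (I.map (algebraMap A B))
  intro x
  have h1 : I.map (algebraMap A B') = (I.map (algebraMap A B)).map (e : B →+* B') := by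
    rw [Ideal.map_map]
    congr 1
    ext a
    exact (e.commutes a).symm
  have h2 : I.map (algebraMap A B) = (I.map (algebraMap A B')).map (e.symm : B' →+* B) := by
    rw [Ideal.map_map]
    congr 1
    ext a
    exact (e.symm.commutes a).symm
  constructor
  · intro hx
    rw [h2]
    exact Ideal.mem_map_of_mem _ hx
  · intro hx
    rw [h1]
    have := Ideal.mem_map_of_mem (e : B →+* B') hx
    simpa using this

end Groth.Agent.H8.HensPair
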