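import Mathlib
import Groth.Agent.Lib.Helper8.HensPair.Idempotent
import Groth.Agent.Lib.Helper8.HensPair.Gabber

universe u
open Polynomial

namespace Groth.Agent.H8.HensPair

variable {A : Type u} [CommRing A] {I : Ideal A}

theorem aeval_mem_map_of_map_eq_zero {B : Type*} [CommRing B] [Algebra A B] (b : B) {p : A[X]}
    (hp : p.map (Ideal.Quotient.mk I) = 0) : aeval b p ∈ I.map (algebraMap A B) :=
  aeval_mem_map_of_coeff_mem b (coeff_mem_of_map_eq_zero hp)

/-- Key lemma for factorization lifting: if `e` is an idempotent of `B = A[X]/(f)` and `g₁` is a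
monic polynomial with `e g₁(x) ∈ IB`, then `g₁` can be corrected modulo `I` to a monic `g` with
`e g(x) = 0`. -/
theorem exists_monic_mul_aeval_eq_zero (hI : I ≤ Ideal.jacobson ⊥) (f : A[X]) (hf : f.Monic)
    (e : AdjoinRoot f) (he : IsIdempotentElem e) (g₁ : A[X]) (hg₁ : g₁.Monic)
    (h : e * aeval (AdjoinRoot.root f) g₁ ∈ I.map (algebraMap A (AdjoinRoot f))) :
    ∃ g : A[X], g.Monic ∧ g.natDegree = g₁.natDegree ∧
      g.map (Ideal.Quotient.mk I) = g₁.map (Ideal.Quotient.mk I) ∧
      e * aeval (AdjoinRoot.root f) g = 0 := by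
  rcases subsingleton_or_nontrivial A with hA | hA
  · haveI : Subsingleton (AdjoinRoot f) := by
      refine ⟨fun x y => ?_⟩
      rw [← one_smul A x, ← one_smul A y, Subsingleton.elim (1 : A) 0, zero_smul, zero_smul]
    exact ⟨g₁, hg₁, rfl, rfl, Subsingleton.elim _ _⟩
  let B := AdjoinRoot f
  let x : B := AdjoinRoot.root f
  haveI : Module.Finite A B := (AdjoinRoot.powerBasis' hf).finite
  set r := g₁.natDegree with hr
  let w : Fin r → B := fun j => e * x ^ (j : ℕ)
  let N₁ : Submodule A B := Submodule.span A (Set.range w)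
  let μ : B →ₗ[A] B := LinearMap.mulLeft A e
  let M₁ : Submodule A B := LinearMap.range μ
  have hIB : (I.map (algebraMap A B)).restrictScalars A = I • (⊤ : Submodule A B) := by
    rw [Ideal.smul_top_eq_map]
  have hmemIM : ∀ y : B, y ∈ I.map (algebraMap A B) → e * y ∈ I • M₁ := by
    intro y hy
    have h1 : y ∈ I • (⊤ : Submodule A B) := by rw [← hIB]; exact hy
    have h2 : μ y ∈ (I • (⊤ : Submodule A B)).map μ := Submodule.mem_map_of_mem h1
    rwa [Submodule.map_smul'', Submodule.map_top] at h2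
  have hlow : ∀ ρ : A[X], ρ.degree < r → e * aeval x ρ ∈ N₁ := by
    intro ρ hρ
    rw [aeval_def, eval₂_eq_sum, Polynomial.sum_def, Finset.mul_sum]
    refine Submodule.sum_mem _ fun i hi => ?_
    have hir : i < r := by
      by_contra hcon
      push Not at hcon
      have : ρ.coeff i = 0 := coeff_eq_zero_of_degree_lt (lt_of_lt_of_le hρ (by exact_mod_cast hcon))
      exact (mem_support_iff.mp hi) this
    have : e * (algebraMap A B (ρ.coeff i) * x ^ i) = ρ.coeff i • w ⟨i, hir⟩ := by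
      show _ = ρ.coeff i • (e * x ^ i)
      rw [Algebra.smul_def]; ring
    rw [this]
    exact Submodule.smul_mem _ _ (Submodule.subset_span ⟨_, rfl⟩)
  have hM₁fg : M₁.FG := by
    rw [show M₁ = (⊤ : Submodule A B).map μ from (Submodule.map_top μ).symm]
    exact Module.Finite.fg_top.map μ
  have hM₁N₁ : M₁ ≤ N₁ := by
    apply Submodule.le_of_le_smul_of_le_jacobson_bot hM₁fg hI
    rintro _ ⟨b, rfl⟩
    obtain ⟨p, rfl⟩ := AdjoinRoot.mk_surjective b
    show e * AdjoinRoot.mk f p ∈ _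
    rw [← AdjoinRoot.aeval_eq]
    have hp := modByMonic_add_div p g₁
    have h1 : e * aeval x p = e * aeval x (p %ₘ g₁) + e * ((e * aeval x g₁) * aeval x (p /ₘ g₁)) := by
      conv_lhs => rw [← hp]
      rw [map_add, map_mul, mul_add, ← mul_assoc e (e * _), ← mul_assoc e e, he.eq, mul_assoc]
    rw [h1]
    refine Submodule.add_mem_sup (hlow _ ?_) (hmemIM _ (Ideal.mul_mem_right _ _ h))
    have := degree_modByMonic_lt p hg₁
    rwa [degree_eq_natDegree hg₁.ne_zero] at this
  have hN₁M₁ : N₁ ≤ M₁ := by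
    rw [Submodule.span_le]
    rintro _ ⟨j, rfl⟩
    exact ⟨x ^ (j : ℕ), rfl⟩
  have hMN : M₁ = N₁ := le_antisymm hM₁N₁ hN₁M₁
  have h2 : e * aeval x g₁ ∈ I • N₁ := by
    rw [← hMN]
    have := hmemIM _ h
    rwa [← mul_assoc, he.eq] at this
  obtain ⟨c, hcI, hc⟩ := (Submodule.mem_ideal_smul_span_iff_exists_sum I w _).mp h2
  rw [Finsupp.sum_fintype c (fun i a => a • w i) (fun i => zero_smul _ _)] at hc
  let δ : A[X] := ∑ j : Fin r, C (c j) * X ^ (j : ℕ)
  have hδdeg : δ.degree < r := degree_sum_fin_lt _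
  have hδmap : δ.map (Ideal.Quotient.mk I) = 0 := by
    rw [Polynomial.map_sum]
    refine Finset.sum_eq_zero fun j _ => ?_
    rw [Polynomial.map_mul, map_C, Ideal.Quotient.eq_zero_iff_mem.mpr (hcI j), map_zero, zero_mul]
  have hδe : e * aeval x δ = e * aeval x g₁ := by
    rw [← hc, map_sum, Finset.mul_sum]
    refine Finset.sum_congr rfl fun j _ => ?_
    rw [map_mul, aeval_C, map_pow, aeval_X, Algebra.smul_def]
    show _ = algebraMap A B (c j) * (e * x ^ (j : ℕ))
    ring
  refine ⟨g₁ - δ, ?_, ?_, ?_, ?_⟩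
  · apply hg₁.sub_of_left
    rwa [degree_eq_natDegree hg₁.ne_zero]
  · rcases eq_or_ne δ 0 with h0 | h0
    · rw [h0, sub_zero]
    · exact natDegree_sub_eq_left_of_natDegree_lt ((natDegree_lt_iff_degree_lt h0).mpr hδdeg)
  · rw [Polynomial.map_sub, hδmap, sub_zero]
  · rw [map_sub, mul_sub, hδe, sub_self]

end Groth.Agent.H8.HensPair
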