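import Mathlib
import Groth.Agent.Lib.Helper8.HensPair.FactorKey
import Groth.Agent.Lib.Helper8.HensPair.Sup

universe u
open Polynomial

namespace Groth.Agent.H8.HensPair

variable {A : Type u} [CommRing A] {I : Ideal A}

/-- Stacks 09XI (1) ⇒ (1'): lifting coprime monic factorizations over a henselian pair. -/
theorem exists_factorization [hH : HenselianRing A I] (f : A[X]) (hf : f.Monic)
    (g₀ h₀ : (A ⧸ I)[X]) (hg₀ : g₀.Monic) (hh₀ : h₀.Monic) (hcop : IsCoprime g₀ h₀)
    (hfgh : f.map (Ideal.Quotient.mk I) = g₀ * h₀) :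
    ∃ g h : A[X], g.Monic ∧ h.Monic ∧ f = g * h ∧
      g.map (Ideal.Quotient.mk I) = g₀ ∧ h.map (Ideal.Quotient.mk I) = h₀ := by
  rcases subsingleton_or_nontrivial (A ⧸ I) with hk | hk
  · have hIt : I = ⊤ := Ideal.Quotient.subsingleton_iff.mp hk
    haveI : Subsingleton A := by
      have h1 : (1 : A) ∈ Ideal.jacobson (⊥ : Ideal A) := hH.jac (hIt ▸ Submodule.mem_top)
      have := Ideal.mem_jacobson_bot.mp h1 (-1)
      rw [one_mul, neg_add_cancel] at this
      exact subsingleton_of_zero_eq_one (isUnit_zero_iff.mp this)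
    exact ⟨1, 1, monic_one, monic_one, Subsingleton.elim _ _, Subsingleton.elim _ _,
      Subsingleton.elim _ _⟩
  haveI : Nontrivial A := (Ideal.Quotient.mk I).domain_nontrivial
  have hsurj : Function.Surjective (Ideal.Quotient.mk I) := Ideal.Quotient.mk_surjective
  obtain ⟨u₀, v₀, huv⟩ := hcop
  obtain ⟨u, rfl⟩ := Polynomial.map_surjective _ hsurj u₀
  obtain ⟨v, rfl⟩ := Polynomial.map_surjective _ hsurj v₀
  obtain ⟨g₁, hg₁map, hg₁deg, hg₁⟩ := lifts_and_natDegree_eq_and_monic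
    ((mem_lifts _).mpr (Polynomial.map_surjective _ hsurj g₀)) hg₀
  obtain ⟨h₁, hh₁map, hh₁deg, hh₁⟩ := lifts_and_natDegree_eq_and_monic
    ((mem_lifts _).mpr (Polynomial.map_surjective _ hsurj h₀)) hh₀
  subst hg₁map hh₁map
  let B := AdjoinRoot f
  let x : B := AdjoinRoot.root f
  haveI : Module.Free A B := Module.Free.of_basis (AdjoinRoot.powerBasis' hf).basis
  haveI : Module.Finite A B := (AdjoinRoot.powerBasis' hf).finite
  have hfx : aeval x f = 0 := AdjoinRoot.aeval_eq f ▸ AdjoinRoot.mk_self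
  let y₀ : B := aeval x (v * h₁)
  -- three congruences
  have hA1 : y₀ * aeval x g₁ ∈ I.map (algebraMap A B) := by
    have : y₀ * aeval x g₁ = aeval x (v * h₁ * g₁ - v * f) := by
      rw [map_sub, map_mul _ v f, hfx, mul_zero, sub_zero, map_mul]
    rw [this]
    apply aeval_mem_map_of_map_eq_zero
    rw [Polynomial.map_sub, Polynomial.map_mul, Polynomial.map_mul, Polynomial.map_mul, hfgh]
    ring
  have hA2 : (1 - y₀) * aeval x h₁ ∈ I.map (algebraMap A B) := by
    have : (1 - y₀) * aeval x h₁ = aeval x ((1 - v * h₁) * h₁ - u * f) := by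
      rw [map_sub, map_mul _ u f, hfx, mul_zero, sub_zero, map_mul, map_sub, map_one]
    rw [this]
    apply aeval_mem_map_of_map_eq_zero
    rw [Polynomial.map_sub, Polynomial.map_mul, Polynomial.map_mul, Polynomial.map_sub,
      Polynomial.map_mul, Polynomial.map_one, hfgh]
    linear_combination (-map (Ideal.Quotient.mk I) h₁) * huv
  have hA3 : y₀ * y₀ - y₀ ∈ I.map (algebraMap A B) := by
    have : y₀ * y₀ - y₀ = -aeval x (v * h₁ * (1 - v * h₁) - u * v * f) := by
      rw [map_sub, map_mul _ (u * v) f, hfx, mul_zero, sub_zero, map_mul, map_sub, map_one]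
      ring
    rw [this]
    apply neg_mem
    apply aeval_mem_map_of_map_eq_zero
    rw [Polynomial.map_sub, Polynomial.map_mul, Polynomial.map_mul, Polynomial.map_sub,
      Polynomial.map_mul, Polynomial.map_one, Polynomial.map_mul, Polynomial.map_mul, hfgh]
    linear_combination (-(map (Ideal.Quotient.mk I) v * map (Ideal.Quotient.mk I) h₁)) * huv
  obtain ⟨e, he, hey⟩ := exists_idempotent_of_free I y₀ hA3
  have hB1 : e * aeval x g₁ ∈ I.map (algebraMap A B) := by
    have : e * aeval x g₁ = (e - y₀) * aeval x g₁ + y₀ * aeval x g₁ := by ring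
    rw [this]
    exact Ideal.add_mem _ (Ideal.mul_mem_right _ _ hey) hA1
  have hB2 : (1 - e) * aeval x h₁ ∈ I.map (algebraMap A B) := by
    have : (1 - e) * aeval x h₁ = (1 - y₀) * aeval x h₁ - (e - y₀) * aeval x h₁ := by ring
    rw [this]
    exact Ideal.sub_mem _ hA2 (Ideal.mul_mem_right _ _ hey)
  obtain ⟨g, hgmon, hgdeg, hgmap, hge⟩ :=
    exists_monic_mul_aeval_eq_zero hH.jac f hf e he g₁ hg₁ hB1
  obtain ⟨h, hhmon, hhdeg, hhmap, hhe⟩ :=
    exists_monic_mul_aeval_eq_zero hH.jac f hf (1 - e) he.one_sub h₁ hh₁ hB2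
  refine ⟨g, h, hgmon, hhmon, ?_, hgmap, hhmap⟩
  have hgh : aeval x (g * h) = 0 := by
    have : aeval x (g * h) = (e * aeval x g) * aeval x h + ((1 - e) * aeval x h) * aeval x g := by
      rw [map_mul]; ring
    rw [this, hge, hhe, zero_mul, zero_mul, add_zero]
  have hdvd : f ∣ g * h := by
    rw [← AdjoinRoot.mk_eq_zero, ← AdjoinRoot.aeval_eq]
    exact hgh
  have hdeg : (g * h).natDegree ≤ f.natDegree := by
    rw [hgmon.natDegree_mul hhmon, hgdeg, hhdeg, hg₁deg, hh₁deg, ← hf.natDegree_map (Ideal.Quotient.mk I),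
      hfgh, hg₀.natDegree_mul hh₀]
  exact (eq_of_monic_of_dvd_of_natDegree_le hf (hgmon.mul hhmon) hdvd hdeg).symm

/-- Stacks 09XI (1') ⇒ (1). -/
theorem henselianRing_of_factorization (hI : I ≤ Ideal.jacobson ⊥)
    (H : ∀ f : A[X], f.Monic → ∀ g₀ h₀ : (A ⧸ I)[X], g₀.Monic → h₀.Monic →
        IsCoprime g₀ h₀ → f.map (Ideal.Quotient.mk I) = g₀ * h₀ →
        ∃ g h : A[X], g.Monic ∧ h.Monic ∧ f = g * h ∧
          g.map (Ideal.Quotient.mk I) = g₀ ∧ h.map (Ideal.Quotient.mk I) = h₀) :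
    HenselianRing A I := by
  refine ⟨hI, fun f hf a₀ h₁ h₂ => ?_⟩
  rcases subsingleton_or_nontrivial (A ⧸ I) with hk | hk
  · have hIt : I = ⊤ := Ideal.Quotient.subsingleton_iff.mp hk
    haveI : Subsingleton A := by
      have h1 : (1 : A) ∈ Ideal.jacobson (⊥ : Ideal A) := hI (hIt ▸ Submodule.mem_top)
      have := Ideal.mem_jacobson_bot.mp h1 (-1)
      rw [one_mul, neg_add_cancel] at this
      exact subsingleton_of_zero_eq_one (isUnit_zero_iff.mp this)
    exact ⟨a₀, Subsingleton.elim _ _, by rw [sub_self]; exact I.zero_mem⟩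
  set ā := Ideal.Quotient.mk I a₀ with hā
  set fb := f.map (Ideal.Quotient.mk I) with hfb
  have hroot : fb.IsRoot ā := by
    rw [IsRoot, hfb, eval_map, hā, Polynomial.eval₂_at_apply]
    exact Ideal.Quotient.eq_zero_iff_mem.mpr h₁
  set qb := fb /ₘ (X - C ā) with hqb
  have hfq : (X - C ā) * qb = fb := mul_divByMonic_eq_iff_isRoot.mpr hroot
  have hfbmon : fb.Monic := hf.map _
  have hqbmon : qb.Monic := Monic.of_mul_monic_left (monic_X_sub_C ā) (hfq ▸ hfbmon)
  have hqa : qb.eval ā = Ideal.Quotient.mk I (f.derivative.eval a₀) := by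
    have h1 : fb.derivative.eval ā = qb.eval ā := by
      rw [← hfq]; simp
    rw [← h1, hfb, derivative_map, eval_map, hā, Polynomial.eval₂_at_apply]
  obtain ⟨c, hc⟩ := (hqa ▸ h₂).exists_right_inv
  have hcop : IsCoprime (X - C ā) qb := by
    have h2 := modByMonic_add_div qb (X - C ā)
    rw [modByMonic_X_sub_C_eq_C_eval] at h2
    refine ⟨-(C c * (qb /ₘ (X - C ā))), C c, ?_⟩
    have h3 : C (qb.eval ā) * C c = 1 := by rw [← C_mul, hc, C_1]
    linear_combination (-C c) * h2 + h3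
  obtain ⟨g, h, hg, hh, hfgh, hgmap, hhmap⟩ := H f hf _ _ (monic_X_sub_C ā) hqbmon hcop hfq.symm
  have hgdeg : g.natDegree = 1 := by
    rw [← hg.natDegree_map (Ideal.Quotient.mk I), hgmap, natDegree_X_sub_C]
  have hgX := hg.eq_X_add_C hgdeg
  have hg0 : Ideal.Quotient.mk I (g.coeff 0) = -ā := by
    rw [← coeff_map, hgmap]; simp
  refine ⟨-g.coeff 0, ?_, ?_⟩
  · rw [IsRoot, hfgh, eval_mul]
    have : g.eval (-g.coeff 0) = 0 := by
      conv_lhs => rw [hgX]
      simp
    rw [this, zero_mul]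
  · rw [← Ideal.Quotient.eq, map_neg, hg0, neg_neg]

/-- Stacks 09XI (1) ⇔ (1'). -/
theorem henselianRing_iff_factorization :
    HenselianRing A I ↔ (I ≤ Ideal.jacobson ⊥ ∧
      ∀ f : A[X], f.Monic → ∀ g₀ h₀ : (A ⧸ I)[X], g₀.Monic → h₀.Monic →
        IsCoprime g₀ h₀ → f.map (Ideal.Quotient.mk I) = g₀ * h₀ →
        ∃ g h : A[X], g.Monic ∧ h.Monic ∧ f = g * h ∧
          g.map (Ideal.Quotient.mk I) = g₀ ∧ h.map (Ideal.Quotient.mk I) = h₀) :=
  ⟨fun h => ⟨h.jac, fun f hf g₀ h₀ hg₀ hh₀ hc hfgh => exists_factorization f hf g₀ h₀ hg₀ hh₀ hc hfgh⟩,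
    fun ⟨h1, h2⟩ => henselianRing_of_factorization h1 h2⟩

end Groth.Agent.H8.HensPair
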