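/-
Helper8 library: Stacks 09XI, idempotent-lifting criterion with the special polynomials
`p ≡ (T² - T)^m`.
-/
import Mathlib
import Groth.Agent.Lib.Helper8.PairHens.IdemDescent
import Groth.Agent.Lib.Helper8.HensPair.Converse

open Polynomial

namespace Groth.Agent.H8.HensPair

universe u

/-- If idempotents lift along `A[T]/(p) → A[T]/(p, I)` for all monic `p ≡ (T² - T)^m mod I`, then
they lift along `B → B/IB` for every integral `A`-algebra `B`. -/
theorem exists_idempotent_of_special {A : Type u} [CommRing A] (I : Ideal A)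
    (h : ∀ (m : ℕ) (p : A[X]), p.Monic →
      p.map (Ideal.Quotient.mk I) = ((X ^ 2 - X) ^ m : A[X]).map (Ideal.Quotient.mk I) →
      ∀ y : AdjoinRoot p, y * y - y ∈ I.map (algebraMap A (AdjoinRoot p)) →
        ∃ e : AdjoinRoot p, IsIdempotentElem e ∧ e - y ∈ I.map (algebraMap A (AdjoinRoot p)))
    {B : Type*} [CommRing B] [Algebra A B] [Algebra.IsIntegral A B] (y₀ : B)
    (hy₀ : y₀ * y₀ - y₀ ∈ I.map (algebraMap A B)) :
    ∃ e : B, IsIdempotentElem e ∧ e - y₀ ∈ I.map (algebraMap A B) := by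
  rcases subsingleton_or_nontrivial A with hA | hA
  · haveI : Subsingleton B := by
      refine ⟨fun x y => ?_⟩
      rw [← one_smul A x, ← one_smul A y, Subsingleton.elim (1 : A) 0, zero_smul, zero_smul]
    exact ⟨0, IsIdempotentElem.zero, by rw [Subsingleton.elim (0 - y₀) 0]; exact Ideal.zero_mem _⟩
  obtain ⟨f, d, hdpos, hfmon, hfy, hfI⟩ :=
    PairHens.exists_monic_aeval_eq_zero_of_idempotent_mod I y₀ hy₀
  have hfmap : f.map (Ideal.Quotient.mk I) = ((X ^ 2 - X) ^ d : A[X]).map (Ideal.Quotient.mk I) := by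
    rw [← sub_eq_zero, ← Polynomial.map_sub]
    ext i
    rw [coeff_map, coeff_zero]
    exact Ideal.Quotient.eq_zero_iff_mem.mpr (hfI i)
  let B' := AdjoinRoot f
  let t : B' := AdjoinRoot.root f
  have hft : aeval t f = 0 := AdjoinRoot.aeval_eq f ▸ AdjoinRoot.mk_self
  obtain ⟨W, hW⟩ := idemPoly_mul_one_sub A d
  have hQ : aeval t (idemPoly A d) * aeval t (idemPoly A d) - aeval t (idemPoly A d) ∈
      I.map (algebraMap A B') := by
    rw [← map_mul, ← map_sub, hW, map_mul]
    apply Ideal.mul_mem_right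
    have : aeval t ((X ^ 2 - X : A[X]) ^ d) = -aeval t (f - (X ^ 2 - X) ^ d) := by
      rw [map_sub, hft]; ring
    rw [this]
    exact neg_mem (aeval_mem_map_of_coeff_mem t hfI)
  obtain ⟨e', he', hee'⟩ := h d f hfmon hfmap (aeval t (idemPoly A d)) hQ
  let φ : B' →ₐ[A] B := AdjoinRoot.liftAlgHom f (Algebra.ofId A B) y₀ hfy
  have hφt : φ t = y₀ := AdjoinRoot.liftAlgHom_root f (Algebra.ofId A B) y₀ hfy
  refine ⟨φ e', he'.map φ, ?_⟩
  have h1 : φ e' - aeval y₀ (idemPoly A d) ∈ I.map (algebraMap A B) := by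
    have := map_mem_map_of_algHom φ hee'
    rwa [map_sub, ← aeval_algHom_apply, hφt] at this
  have h2 : aeval y₀ (idemPoly A d) - y₀ ∈ I.map (algebraMap A B) := by
    rw [← Ideal.Quotient.eq, ← Ideal.Quotient.mkₐ_eq_mk A, ← aeval_algHom_apply]
    apply aeval_idemPoly_of_isIdempotentElem _ d hdpos
    show Ideal.Quotient.mk _ y₀ * Ideal.Quotient.mk _ y₀ = Ideal.Quotient.mk _ y₀
    rw [← map_mul, Ideal.Quotient.eq]
    exact hy₀
  have : φ e' - y₀ = (φ e' - aeval y₀ (idemPoly A d)) + (aeval y₀ (idemPoly A d) - y₀) := by ring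
  rw [this]
  exact Ideal.add_mem _ h1 h2

/-- Stacks 09XI: the criterion with special polynomials. -/
theorem henselianRing_of_special {A : Type u} [CommRing A] (I : Ideal A)
    (hI : I ≤ Ideal.jacobson ⊥)
    (h : ∀ (m : ℕ) (p : A[X]), p.Monic →
      p.map (Ideal.Quotient.mk I) = ((X ^ 2 - X) ^ m : A[X]).map (Ideal.Quotient.mk I) →
      Set.SurjOn (Ideal.Quotient.mk (Ideal.map (algebraMap A (AdjoinRoot p)) I))
        {e : AdjoinRoot p | IsIdempotentElem e} {e | IsIdempotentElem e}) :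
    HenselianRing A I := by
  have h' : ∀ (m : ℕ) (p : A[X]), p.Monic →
      p.map (Ideal.Quotient.mk I) = ((X ^ 2 - X) ^ m : A[X]).map (Ideal.Quotient.mk I) →
      ∀ y : AdjoinRoot p, y * y - y ∈ I.map (algebraMap A (AdjoinRoot p)) →
        ∃ e : AdjoinRoot p, IsIdempotentElem e ∧ e - y ∈ I.map (algebraMap A (AdjoinRoot p)) := by
    intro m p hp hpm y hy
    have hy' : Ideal.Quotient.mk (I.map (algebraMap A (AdjoinRoot p))) y ∈
        {e | IsIdempotentElem e} := by
      show _ * _ = _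
      rw [← map_mul, Ideal.Quotient.eq]
      exact hy
    obtain ⟨e, he, hey⟩ := h m p hp hpm hy'
    exact ⟨e, he, Ideal.Quotient.eq.mp hey⟩
  refine ⟨hI, fun f hf a₀ h₁ h₂ => ?_⟩
  apply exists_root_of_exists_idempotent hI f hf a₀ h₁ h₂
  intro y₀ hy₀
  haveI : Module.Finite A (AdjoinRoot f) := (AdjoinRoot.powerBasis' hf).finite
  exact exists_idempotent_of_special I h' y₀ hy₀

end Groth.Agent.H8.HensPair
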