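import Mathlib
import Groth.Agent.Lib.Helper8.HensPair.Converse

set_option autoImplicit false
universe u
open Polynomial

namespace Groth.Agent.H8.HensPair

variable {A : Type u} [CommRing A]

/-- A henselian pair stays henselian along a smaller ideal. -/
theorem henselianRing_of_le {I J : Ideal A} [hI : HenselianRing A I] (hJI : J ≤ I) :
    HenselianRing A J := by
  have hJ : J ≤ Ideal.jacobson ⊥ := hJI.trans hI.jac
  refine ⟨hJ, fun f hf a₀ h₁ h₂ => ?_⟩
  have h₂' : IsUnit (Ideal.Quotient.mk I (f.derivative.eval a₀)) := by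
    have := h₂.map (Ideal.Quotient.factor hJI)
    rwa [Ideal.Quotient.factor_mk] at this
  obtain ⟨a, ha, haa⟩ := hI.is_henselian f hf a₀ (hJI h₁) h₂'
  refine ⟨a, ha, ?_⟩
  obtain ⟨k, hk⟩ := f.binomExpansion a₀ (a - a₀)
  rw [add_sub_cancel, ha.eq_zero] at hk
  set u := f.derivative.eval a₀ + k * (a - a₀) with hu
  have hu_unit : IsUnit u := by
    haveI := isLocalHom_of_le_jacobson_bot I hI.jac
    apply isUnit_of_map_unit (Ideal.Quotient.mk I)
    have : Ideal.Quotient.mk I u = Ideal.Quotient.mk I (f.derivative.eval a₀) := by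
      rw [Ideal.Quotient.eq, hu, add_sub_cancel_left]
      exact Ideal.mul_mem_left _ _ haa
    rw [this]; exact h₂'
  have h3 : u * (a - a₀) = -f.eval a₀ := by
    rw [hu]; linear_combination -hk
  obtain ⟨v, hv⟩ := hu_unit.exists_left_inv
  have h4 : a - a₀ = v * (-f.eval a₀) := by
    rw [← h3, ← mul_assoc, hv, one_mul]
  rw [h4]
  exact Ideal.mul_mem_left _ _ (neg_mem h₁)

/-- A henselian pair is henselian along the radical. -/
theorem henselianRing_radical (I : Ideal A) [hI : HenselianRing A I] :
    HenselianRing A I.radical := by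
  have hrad : I.radical ≤ Ideal.jacobson ⊥ := by
    intro x hx
    obtain ⟨n, hn⟩ := hx
    have h1 := hI.jac hn
    rw [Ideal.jacobson, Ideal.mem_sInf] at h1 ⊢
    intro M hM
    haveI := hM.2
    exact (hM.2.isPrime).mem_of_pow_mem n (h1 hM)
  apply henselianRing_of_bijOn_idempotents
  intro B _ _ hB
  haveI : Algebra.IsIntegral A B := Algebra.IsIntegral.of_finite A B
  have hle : I.map (algebraMap A B) ≤ I.radical.map (algebraMap A B) :=
    Ideal.map_mono Ideal.le_radical
  refine ⟨fun e he => he.map _, ?_, ?_⟩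
  · intro e he e' he' hee'
    apply idempotent_eq_of_sub_mem_jacobson he he'
    apply map_le_jacobson_of_isIntegral hrad
    exact Ideal.Quotient.eq.mp hee'
  · intro ebar hebar
    let ψ : B ⧸ I.map (algebraMap A B) →+* B ⧸ I.radical.map (algebraMap A B) :=
      Ideal.Quotient.factor hle
    have hψsurj : Function.Surjective ψ := Ideal.Quotient.factor_surjective hle
    have hker : ∀ x ∈ RingHom.ker ψ, IsNilpotent x := by
      intro x hx
      obtain ⟨b, rfl⟩ := Ideal.Quotient.mk_surjective x
      rw [RingHom.mem_ker, Ideal.Quotient.factor_mk, Ideal.Quotient.eq_zero_iff_mem] at hx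
      obtain ⟨n, hn⟩ := Ideal.map_radical_le _ hx
      exact ⟨n, by rw [← map_pow, Ideal.Quotient.eq_zero_iff_mem]; exact hn⟩
    obtain ⟨e₁, he₁, he₁e⟩ := exists_isIdempotentElem_eq_of_ker_isNilpotent ψ hker ebar
      (RingHom.mem_range.mpr (hψsurj ebar)) hebar
    obtain ⟨e, he, hee₁⟩ := (bijOn_idempotents_of_isIntegral I B).surjOn he₁
    refine ⟨e, he, ?_⟩
    rw [← he₁e, ← hee₁, Ideal.Quotient.factor_mk]

theorem henselianRing_of_radical_eq {I J : Ideal A} [HenselianRing A I]
    (h : J.radical = I.radical) : HenselianRing A J := by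
  haveI := henselianRing_radical I
  exact henselianRing_of_le (I := I.radical) (h ▸ Ideal.le_radical)

end Groth.Agent.H8.HensPair
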