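import Mathlib
import Groth.Agent.Lib.Helper8.HensPair.Basic

open Polynomial

namespace Groth.Agent.H8.HensPair

section DirColim

variable {ι : Type*} [Preorder ι] [IsDirected ι (· ≤ ·)] [Nonempty ι]
  (G : ι → Type*) [∀ i, CommRing (G i)] (f : ∀ i j, i ≤ j → G i →+* G j)
  {L : Type*} [CommRing L] (o : ∀ i, G i →+* L)
  (hcompat : ∀ i j (h : i ≤ j) (x : G i), o j (f i j h x) = o i x)
  (hsurj : ∀ z : L, ∃ (i : ι) (x : G i), o i x = z)
  (hker : ∀ (i : ι) (x : G i), o i x = 0 → ∃ (j : ι) (h : i ≤ j), f i j h x = 0)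
  (I : ∀ i, Ideal (G i)) (hI : ∀ i j (h : i ≤ j), (I i).map (f i j h) ≤ I j)

include hcompat hsurj in
theorem dirColim_exists_finset (s : Finset L) : ∃ i, ∀ z ∈ s, z ∈ Set.range (o i) := by
  classical
  induction s using Finset.induction with
  | empty => exact ⟨Classical.arbitrary ι, by simp⟩
  | insert a s _ ih =>
    obtain ⟨i, hi⟩ := ih
    obtain ⟨j, x, hx⟩ := hsurj a
    obtain ⟨k, hik, hjk⟩ := exists_ge_ge i j
    refine ⟨k, ?_⟩
    intro z hz
    rw [Finset.mem_insert] at hz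
    rcases hz with rfl | hz
    · exact ⟨f j k hjk x, by rw [hcompat, hx]⟩
    · obtain ⟨y, hy⟩ := hi z hz
      exact ⟨f i k hik y, by rw [hcompat, hy]⟩

omit [IsDirected ι (· ≤ ·)] [Nonempty ι] in
include hker in
theorem dirColim_exists_eq {i : ι} (x y : G i) (h : o i x = o i y) :
    ∃ (j : ι) (hij : i ≤ j), f i j hij x = f i j hij y := by
  obtain ⟨j, hij, hj⟩ := hker i (x - y) (by rw [map_sub, h, sub_self])
  exact ⟨j, hij, by rwa [map_sub, sub_eq_zero] at hj⟩

/-- The ideal of the colimit generated by the `I i`, described elementwise. -/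
def dirColimIdeal (hcompat : ∀ i j (h : i ≤ j) (x : G i), o j (f i j h x) = o i x)
    (hsurj : ∀ z : L, ∃ (i : ι) (x : G i), o i x = z)
    (hI : ∀ i j (h : i ≤ j), (I i).map (f i j h) ≤ I j) : Ideal L where
  carrier := {z | ∃ (i : ι) (y : G i), y ∈ I i ∧ o i y = z}
  zero_mem' := ⟨Classical.arbitrary ι, 0, Ideal.zero_mem _, map_zero _⟩
  add_mem' := by
    rintro _ _ ⟨i, y, hy, rfl⟩ ⟨j, y', hy', rfl⟩
    obtain ⟨k, hik, hjk⟩ := exists_ge_ge i j
    refine ⟨k, f i k hik y + f j k hjk y', Ideal.add_mem _ ?_ ?_, ?_⟩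
    · exact hI i k hik (Ideal.mem_map_of_mem _ hy)
    · exact hI j k hjk (Ideal.mem_map_of_mem _ hy')
    · rw [map_add, hcompat, hcompat]
  smul_mem' := by
    rintro l _ ⟨i, y, hy, rfl⟩
    obtain ⟨j, x, rfl⟩ := hsurj l
    obtain ⟨k, hik, hjk⟩ := exists_ge_ge i j
    refine ⟨k, f j k hjk x * f i k hik y, Ideal.mul_mem_left _ _ ?_, ?_⟩
    · exact hI i k hik (Ideal.mem_map_of_mem _ hy)
    · rw [map_mul, hcompat, hcompat, smul_eq_mul]

theorem mem_dirColimIdeal {z : L} :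
    z ∈ dirColimIdeal G f o I hcompat hsurj hI ↔ ∃ (i : ι) (y : G i), y ∈ I i ∧ o i y = z :=
  Iff.rfl

theorem dirColimIdeal_eq :
    dirColimIdeal G f o I hcompat hsurj hI = ⨆ i, (I i).map (o i) := by
  apply le_antisymm
  · rintro z ⟨i, y, hy, rfl⟩
    exact (le_iSup (fun i => (I i).map (o i)) i) (Ideal.mem_map_of_mem _ hy)
  · apply iSup_le
    intro i
    rw [Ideal.map_le_iff_le_comap]
    intro y hy
    exact ⟨i, y, hy, rfl⟩

include hcompat hsurj hker hI in
/-- A directed colimit of henselian pairs is a henselian pair. -/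
theorem henselianRing_of_dirColim
    (hmap : ∀ i j k (hij : i ≤ j) (hjk : j ≤ k) (x : G i),
      f j k hjk (f i j hij x) = f i k (hij.trans hjk) x)
    (hh : ∀ i, HenselianRing (G i) (I i)) :
    HenselianRing L (⨆ i, (I i).map (o i)) := by
  rw [← dirColimIdeal_eq G f o hcompat hsurj I hI]
  have hpush : ∀ {i j : ι} (hij : i ≤ j) (x : G i), x ∈ I i → f i j hij x ∈ I j :=
    fun hij x hx => hI _ _ hij (Ideal.mem_map_of_mem _ hx)
  have hmem : ∀ {i : ι} (x : G i), o i x ∈ dirColimIdeal G f o I hcompat hsurj hI →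
      ∃ (j : ι) (hij : i ≤ j), f i j hij x ∈ I j := by
    intro i x hx
    obtain ⟨j, y, hy, hxy⟩ := hx
    obtain ⟨k, hik, hjk⟩ := exists_ge_ge i j
    have h1 : o k (f i k hik x) = o k (f j k hjk y) := by rw [hcompat, hcompat, hxy]
    obtain ⟨l, hkl, hl⟩ := dirColim_exists_eq G f o hker _ _ h1
    refine ⟨l, hik.trans hkl, ?_⟩
    rw [← hmap i k l hik hkl, hl]
    exact hpush hkl _ (hpush hjk y hy)
  constructor
  · intro z hz
    obtain ⟨i, y, hy, rfl⟩ := hz
    rw [Ideal.mem_jacobson_bot]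
    intro l
    obtain ⟨j, x, rfl⟩ := hsurj l
    obtain ⟨k, hik, hjk⟩ := exists_ge_ge i j
    have : o i y * o j x + 1 = o k (f i k hik y * f j k hjk x + 1) := by
      rw [map_add, map_mul, map_one, hcompat, hcompat]
    rw [this]
    apply IsUnit.map
    have hyk : f i k hik y ∈ I k := hpush hik y hy
    exact (Ideal.mem_jacobson_bot.mp ((hh k).jac hyk)) _
  · intro p hp a₀ h1 h2
    classical
    obtain ⟨i₁, hi₁⟩ := dirColim_exists_finset G f o hcompat hsurj (p.support.image p.coeff)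
    have hlift : p ∈ Polynomial.lifts (o i₁) := by
      rw [Polynomial.lifts_iff_coeff_lifts]
      intro n
      by_cases hn : n ∈ p.support
      · exact hi₁ _ (Finset.mem_image_of_mem _ hn)
      · rw [Polynomial.notMem_support_iff.mp hn]; exact ⟨0, map_zero _⟩
    obtain ⟨q, hq, -, hqmon⟩ := Polynomial.lifts_and_natDegree_eq_and_monic hlift hp
    obtain ⟨i₂, b, hb⟩ := hsurj a₀
    obtain ⟨ub, hub⟩ := h2.exists_left_inv
    obtain ⟨u, rfl⟩ := Ideal.Quotient.mk_surjective ub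
    have hu : u * p.derivative.eval a₀ - 1 ∈ dirColimIdeal G f o I hcompat hsurj hI := by
      rw [← Ideal.Quotient.eq, map_mul, hub, map_one]
    obtain ⟨i₃, v, hv⟩ := hsurj u
    obtain ⟨k₀, h1k₀, h2k₀⟩ := exists_ge_ge i₁ i₂
    obtain ⟨k, hk₀k, h3k⟩ := exists_ge_ge k₀ i₃
    have h1k : i₁ ≤ k := h1k₀.trans hk₀k
    have h2k : i₂ ≤ k := h2k₀.trans hk₀k
    obtain ⟨q', hq'⟩ : ∃ q' : (G k)[X], q' = q.map (f i₁ k h1k) := ⟨_, rfl⟩
    obtain ⟨b', hb'⟩ : ∃ b' : G k, b' = f i₂ k h2k b := ⟨_, rfl⟩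
    obtain ⟨v', hv'⟩ : ∃ v' : G k, v' = f i₃ k h3k v := ⟨_, rfl⟩
    have hq'p : q'.map (o k) = p := by
      rw [hq', Polynomial.map_map, ← hq]
      congr 1
      ext x
      exact hcompat _ _ _ x
    have hb'a : o k b' = a₀ := by rw [hb', hcompat, hb]
    have hv'u : o k v' = u := by rw [hv', hcompat, hv]
    have e1 : o k (q'.eval b') = p.eval a₀ := by
      rw [← hq'p, ← hb'a, eval_map_apply]
    have e2 : o k (v' * q'.derivative.eval b' - 1) = u * p.derivative.eval a₀ - 1 := by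
      rw [map_sub, map_mul, map_one, hv'u, ← hq'p, ← hb'a, derivative_map, eval_map_apply]
    obtain ⟨l₁, hkl₁, m1⟩ := hmem (q'.eval b') (by rw [e1]; exact h1)
    obtain ⟨l₂, hkl₂, m2⟩ := hmem (v' * q'.derivative.eval b' - 1) (by rw [e2]; exact hu)
    obtain ⟨l, h1l, h2l⟩ := exists_ge_ge l₁ l₂
    have hkl : k ≤ l := hkl₁.trans h1l
    obtain ⟨q'', hq''⟩ : ∃ q'' : (G l)[X], q'' = q'.map (f k l hkl) := ⟨_, rfl⟩
    obtain ⟨b'', hb''⟩ : ∃ b'' : G l, b'' = f k l hkl b' := ⟨_, rfl⟩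
    have hq''mon : q''.Monic := by rw [hq'', hq']; exact (hqmon.map _).map _
    have hq''p : q''.map (o l) = p := by
      rw [hq'', Polynomial.map_map, ← hq'p]
      congr 1
      ext x
      exact hcompat _ _ _ x
    have hb''a : o l b'' = a₀ := by rw [hb'', hcompat, hb'a]
    have n1 : q''.eval b'' ∈ I l := by
      have : q''.eval b'' = f k l hkl (q'.eval b') := by
        rw [hq'', hb'', eval_map_apply]
      rw [this, ← hmap k l₁ l hkl₁ h1l]
      exact hpush h1l _ m1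
    have n2 : f k l hkl v' * q''.derivative.eval b'' - 1 ∈ I l := by
      have : f k l hkl v' * q''.derivative.eval b'' - 1 =
          f k l hkl (v' * q'.derivative.eval b' - 1) := by
        rw [hq'', hb'', derivative_map, eval_map_apply, map_sub, map_mul, map_one]
      have hkl' : hkl = hkl₂.trans h2l := rfl
      rw [this, hkl', ← hmap k l₂ l hkl₂ h2l]
      exact hpush h2l _ m2
    have n3 : IsUnit (Ideal.Quotient.mk (I l) (q''.derivative.eval b'')) := by
      refine IsUnit.of_mul_eq_one (Ideal.Quotient.mk (I l) (f k l hkl v')) ?_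
      rw [mul_comm, ← map_mul, ← map_one (Ideal.Quotient.mk (I l)), Ideal.Quotient.eq]
      exact n2
    obtain ⟨a, ha1, ha2⟩ := (hh l).is_henselian q'' hq''mon b'' n1 n3
    refine ⟨o l a, ?_, ?_⟩
    · have h3 : eval a q'' = 0 := ha1
      have h4 := eval_map_apply (p := q'') (o l) a
      rw [h3, map_zero, hq''p] at h4
      exact h4
    · refine ⟨l, a - b'', ha2, ?_⟩
      rw [map_sub, hb''a]

end DirColim

end Groth.Agent.H8.HensPair
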